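import Cfsg.Agent.LocalFlavell.DihedralChain.Build

/-!
The chain of a dihedral datum has length two, three or four.
-/

set_option autoImplicit false

namespace Cfsg.Agent.LocalFlavell.DihedralChain

variable {G : Type*} [Group G]

/-- The non-abelian configurations. -/
structure Shape (D : Data G) (x w u : G) (F : Subgroup G) : Prop where
  hx : x ∈ D.P
  hxR : x ∉ D.R
  xsq : x * x = 1
  hw : w ∈ D.R
  hu : u ∈ D.R
  wsq : w * w = 1
  usq : u * u = 1
  wu : Commute w u
  xw : Commute x w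
  xu : x * u * x = u * w
  cw : D.c * w * D.c⁻¹ = u
  cu : D.c * u * D.c⁻¹ = w * u
  ne : w ≠ 1
  hFR : F ≤ D.R
  hF : ∀ f ∈ F, ∀ h ∈ D.H, Commute f h
  cardF : Nat.card F ≤ 2
  cardR : Nat.card D.R = 4 * Nat.card F
  cover : ∀ r ∈ D.R, ∃ a ∈ Subgroup.closure {w, u}, ∃ f ∈ F, r = a * f

theorem Data.cu_of (D : Data G) {x w u : G} (hx : x ∈ D.P) (hxR : x ∉ D.R) (hxsq : x * x = 1)
    (hR : ∀ r ∈ D.R, Commute r w) (hxw : Commute x w) (hxu : x * u * x = u * w)
    (husq : u * u = 1) (hcw : D.c * w * D.c⁻¹ = u) : D.c * u * D.c⁻¹ = w * u := by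
  have hxi : x⁻¹ = x := inv_eq_of_mul_eq_one_right hxsq
  set r := D.c * (x * D.c * x⁻¹) with hr
  have hrR : r ∈ D.R := D.refl x hx hxR
  have h1 : x * D.c * x⁻¹ = D.c⁻¹ * r := by rw [hr, inv_mul_cancel_left]
  have h2 : x * u * x = D.c⁻¹ * w * D.c := by
    rw [← hcw]
    calc x * (D.c * w * D.c⁻¹) * x = (x * D.c * x⁻¹) * (x * w * x⁻¹) * (x * D.c * x⁻¹)⁻¹ := by
          rw [hxi]
          have hxx : ∀ z, x * (x * z) = z := fun z => by rw [← mul_assoc, hxsq, one_mul]
          simp [mul_assoc, hxi, hxx]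
      _ = D.c⁻¹ * (r * w * r⁻¹) * D.c := by
          rw [h1, hxw.eq, mul_inv_cancel_right]; group
      _ = _ := by rw [(hR r hrR).eq, mul_inv_cancel_right]
  rw [hxu] at h2
  calc D.c * u * D.c⁻¹ = D.c * (u * w) * D.c⁻¹ * (D.c * w * D.c⁻¹)⁻¹ := by group
    _ = w * u := by rw [h2, hcw, inv_eq_of_mul_eq_one_right husq]; group

theorem le_or_le {A B S : Subgroup G} (h : ∀ v ∈ S, v ∈ A ∨ v ∈ B) : S ≤ A ∨ S ≤ B := by
  by_contra hc
  push Not at hc
  obtain ⟨⟨a, ha, haA⟩, b, hb, hbB⟩ := hc.imp SetLike.not_le_iff_exists.mp SetLike.not_le_iff_exists.mp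
  have haB := (h a ha).resolve_left haA
  have hbA := (h b hb).resolve_right hbB
  rcases h (a * b) (mul_mem ha hb) with hh | hh
  · exact haA ((A.mul_mem_cancel_right hbA).mp hh)
  · exact hbB ((B.mul_mem_cancel_left haB).mp hh)

variable [Finite G]

theorem Chain.eq_or_eq (C : Chain G) (hs : 1 ≤ C.s) {a : ℕ} {z : G} (hz : z ∈ C.E a 1) :
    z = 1 ∨ z = C.X a := by
  rcases C.decomp_right (a := a) (m := 0) hs hz with h | h
  · rw [C.E_zero, Subgroup.mem_bot] at h
    exact Or.inl h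
  · rw [C.E_zero, Subgroup.mem_bot, Nat.add_zero, mul_eq_one_iff_eq_inv, C.X_inv] at h
    exact Or.inr h

theorem Chain.eq_of_pair (C : Chain G) (hs : 2 ≤ C.s) {a : ℕ} {z : G} (hz : z ∈ C.E a 2) :
    z = 1 ∨ z = C.X a ∨ z = C.X (a + 1) ∨ z = C.X a * C.X (a + 1) := by
  rcases C.decomp_right (a := a) (m := 1) hs hz with h | h <;>
    rcases C.eq_or_eq (by omega) h with h' | h'
  · exact Or.inl h'
  · exact Or.inr (Or.inl h')
  · rw [mul_eq_one_iff_eq_inv, C.X_inv] at h'
    exact Or.inr (Or.inr (Or.inl h'))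
  · refine Or.inr (Or.inr (Or.inr ?_))
    rw [← h', mul_assoc, C.X_sq, mul_one]

theorem Data.cases (D : Data G) :
    (Nat.card D.R = 2 ∧ (∀ v ∈ D.P, v * v = 1) ∧ ∀ r ∈ D.R, ∀ h ∈ D.H, Commute r h) ∨
      ∃ x w u : G, ∃ F : Subgroup G, Shape D x w u F := by
  classical
  obtain ⟨C, hφ, hP, hR, hs2⟩ := D.exists_chain
  have hφv : ∀ v, C.φ v = D.c * (D.y * v * D.y⁻¹) * D.c⁻¹ := fun v => by rw [hφ, D.φ_apply]
  have hXP : ∀ i < C.s, C.X i ∈ D.P := fun i hi => hP ▸ C.X_mem (Nat.zero_le i) (by omega)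
  have hXR : ∀ i, 1 ≤ i → i < C.s → C.X i ∈ D.R := fun i h1 h2 => hR ▸ C.X_mem h1 (by omega)
  have hxP : C.x ∈ D.P := C.X_zero ▸ hXP 0 (by omega)
  have hxR : C.x ∉ D.R := by
    rw [← hR, ← C.X_zero]
    exact C.X_notMem_left (a := 0) (m := C.s - 1) (by omega)
  have hmapP : D.P.map (MulAut.conj D.c).toMonoidHom = C.E 1 C.s := by
    rw [← D.map_φ, ← hφ, ← hP]
    have h := C.map_E 1 0 C.s
    rwa [pow_one] at h
  -- centralising both generators of `H`
  have hcentH : ∀ z, (∀ v ∈ D.P, Commute z v) → (∀ v ∈ C.E 1 C.s, Commute z v) →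
      ∀ h ∈ D.H, Commute z h := by
    intro z h1 h2 h hh
    have hle : D.P ⊔ D.P.map (MulAut.conj D.c).toMonoidHom ≤ Subgroup.centralizer {z} := by
      rw [hmapP]
      exact sup_le (fun v hv => Subgroup.mem_centralizer_singleton_iff.mpr (h1 v hv).eq.symm)
        (fun v hv => Subgroup.mem_centralizer_singleton_iff.mpr (h2 v hv).eq.symm)
    exact (Subgroup.mem_centralizer_singleton_iff.mp (hle (D.gen hh))).symm
  obtain ⟨p, hp, q, hq, hy2⟩ := D.y2
  have hyy : ∀ v, D.y * (D.y * v * D.y⁻¹) * D.y⁻¹ = p * (q * v * q⁻¹) * p⁻¹ := fun v => by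
    calc D.y * (D.y * v * D.y⁻¹) * D.y⁻¹ = D.y ^ 2 * v * (D.y ^ 2)⁻¹ := by rw [pow_two]; group
      _ = _ := by rw [hy2]; group
  have hqfix : ∀ v ∈ D.P, q * v * q⁻¹ = v := fun v hv => by
    rw [← Subgroup.mem_centralizer_iff.mp hq v hv, mul_inv_cancel_right]
  -- the second intersection is `y`-invariant
  have hI : (C.E 1 (C.s - 2)).map (MulAut.conj D.y).toMonoidHom = C.E 1 (C.s - 2) := by
    rcases (show C.s = 2 ∨ 3 ≤ C.s by omega) with h | h
    · rw [show C.s - 2 = 0 by omega, C.E_zero, Subgroup.map_bot]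
    refine Subgroup.eq_of_le_of_card_ge ?_ (Subgroup.card_map_of_injective (MulEquiv.injective _)).ge
    rintro _ ⟨v, hv, rfl⟩
    show D.y * v * D.y⁻¹ ∈ _
    have hvR : v ∈ D.R := hR ▸ C.E_le le_rfl (by omega) hv
    have hφR : C.φ v ∈ D.R := by
      have h := C.map_E 1 0 (C.s - 1)
      rw [pow_one, hR] at h
      exact h.le ⟨v, C.E_le (a' := 0) (m' := C.s - 1) (by omega) (by omega) hv, rfl⟩
    have hcR : ∀ w ∈ D.R, D.c⁻¹ * w * D.c ∈ D.R := fun w hw => by
      simpa using Subgroup.le_normalizer_iff.mp D.RN _ (inv_mem D.hcH) w hw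
    have h1 : D.y * v * D.y⁻¹ ∈ D.R := by
      have := hcR _ hφR
      rw [hφv] at this
      simpa [mul_assoc] using this
    have h2 : D.y * v * D.y⁻¹ ∈ C.E 0 (C.s - 1) := by
      have hy : D.y * (D.y * v * D.y⁻¹) * D.y⁻¹ ∈ D.R := by
        rw [hyy, hqfix v (D.hRP hvR)]
        exact Subgroup.le_normalizer_iff.mp D.RN p (D.hPH hp) v hvR
      have hφy : C.φ (D.y * v * D.y⁻¹) ∈ D.R := by
        rw [hφv]
        exact Subgroup.le_normalizer_iff.mp D.RN _ D.hcH _ hy
      have h := C.map_E 1 0 (C.s - 1)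
      rw [pow_one, hR] at h
      obtain ⟨v', hv', he⟩ := h.ge hφy
      rwa [← C.φ.injective he]
    rw [show C.s - 1 = C.s - 2 + 1 by omega] at h2
    exact C.inter (a := 0) (m := C.s - 2) (by omega) h2
      (by rw [← hR, show C.s - 1 = C.s - 2 + 1 by omega] at h1; exact h1)
  by_cases hab : ∀ d < C.s, Commute C.x (C.X d)
  · -- abelian
    left
    have hcX : ∀ i j, i < C.s → j < C.s → Commute (C.X i) (C.X j) := by
      intro i j hi hj
      wlog hij : i ≤ j generalizing i j with Hw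
      · exact (Hw j i hj hi (by omega)).symm
      obtain ⟨d, rfl⟩ := Nat.exists_eq_add_of_le hij
      have := (hab d (by omega)).map (C.φ ^ i)
      rwa [← C.X_zero, ← C.X_add, ← C.X_add, Nat.add_zero] at this
    have hcP : ∀ a ∈ D.P, ∀ b ∈ D.P, Commute a b := by
      intro a ha b hb
      rw [← hP] at ha hb
      exact C.commute_E (fun j _ hj => (C.commute_E (fun i _ hi => hcX j i (by omega) (by omega)) ha).symm) hb
    have hcent : ∀ r ∈ D.R, ∀ h ∈ D.H, Commute r h := fun r hr => by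
      refine hcentH r (fun v hv => hcP r (D.hRP hr) v hv) fun v hv => ?_
      rw [← hmapP] at hv
      obtain ⟨v', hv', rfl⟩ := hv
      obtain ⟨r', hr', hrr⟩ : ∃ r' ∈ D.P, D.c * r' * D.c⁻¹ = r := by
        have : r ∈ D.P.map (MulAut.conj D.c).toMonoidHom := (D.hR.ge hr).2
        exact this
      rw [← hrr]
      exact (hcP r' hr' v' hv').map (MulAut.conj D.c)
    have hIbot := D.core (C.E 1 (C.s - 2)) (hP ▸ C.E_le (by omega) (by omega))
      (Subgroup.le_normalizer_iff.mpr fun g hg v hv => by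
        rw [← (hcent v (hR ▸ C.E_le le_rfl (by omega) hv) g hg).eq, mul_inv_cancel_right]; exact hv) hI
    have hs : C.s = 2 := by
      have h := C.card_E (a := 1) (m := C.s - 2) (by omega)
      rw [hIbot, Subgroup.card_bot] at h
      rcases Nat.eq_zero_or_pos (C.s - 2) with h0 | h0
      · omega
      · exact absurd h.symm (Nat.one_lt_two_pow h0.ne').ne'
    refine ⟨?_, fun v hv => ?_, hcent⟩
    · rw [← hR, C.card_E (by omega), hs]; rfl
    · rw [← hP] at hv
      induction hv using Subgroup.closure_induction with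
      | mem g hg => obtain ⟨i, -, rfl⟩ := hg; exact C.X_sq i
      | one => exact one_mul 1
      | mul g g' hg hg' h h' =>
        have : Commute g' g := hcP g' (hP ▸ hg') g (hP ▸ hg)
        rw [this.mul_mul_mul_comm, h, h', one_mul]
      | inv g _ h => rw [← mul_inv_rev, h, inv_one]
  -- non-abelian
  right
  push Not at hab
  set k := Nat.find hab with hkdef
  obtain ⟨hk1, hk2⟩ := Nat.find_spec hab
  have K : Gap C k :=
    { pos := by
        by_contra h
        have h0 : k = 0 := by omega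
        exact hk2 (by rw [← hkdef, h0, C.X_zero])
      lt := hk1
      comm := fun d hd => by
        by_contra h
        exact Nat.find_min hab hd ⟨by omega, h⟩
      ne := hk2 }
  have h2k := K.le_two
  have hklt := K.lt
  obtain ⟨a, b, hab1, hab2, hab3, hab4, hwE⟩ := K.bounds
  have hcen : ∀ g ∈ C.E (C.s - k) (2 * k - C.s), ∀ v ∈ D.P, Commute g v := fun g hg v hv =>
    K.commE (by omega) (by omega) hg (hP.symm ▸ hv : v ∈ C.E 0 C.s)
  have hFcent : ∀ f ∈ C.E (C.s - k + 1) (2 * k - C.s - 1), ∀ h ∈ D.H, Commute f h := fun f hf =>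
    hcentH f (hcen f (C.E_le (by omega) (by omega) hf))
      fun v hv => K.commE (by omega) (by omega) hf hv
  have hyF1 : ∀ f ∈ C.E (C.s - k) (2 * k - C.s - 1), D.y * f * D.y⁻¹ = C.φ f := by
    intro f hf
    have h := C.map_E 1 (C.s - k) (2 * k - C.s - 1)
    rw [pow_one, add_comm 1] at h
    have hc : Commute (C.φ f) D.c := hFcent _ (h.le ⟨f, hf, rfl⟩) D.c D.hcH
    have h2 : D.c⁻¹ * C.φ f * D.c = C.φ f := by
      rw [mul_assoc, hc.eq, ← mul_assoc, inv_mul_cancel, one_mul]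
    calc D.y * f * D.y⁻¹ = D.c⁻¹ * C.φ f * D.c := by rw [hφv]; group
      _ = _ := h2
  have hy2fix : ∀ f ∈ C.E (C.s - k) (2 * k - C.s), D.y * (D.y * f * D.y⁻¹) * D.y⁻¹ = f := fun f hf => by
    have hfP : f ∈ D.P := hP ▸ C.E_le (Nat.zero_le _) (by omega) hf
    rw [hyy, hqfix f hfP, (hcen f hf p hp).eq.symm, mul_inv_cancel_right]
  -- the centre has order at most four
  have hsk : 2 * k ≤ C.s + 2 := by
    by_contra hcon
    set F := C.E (C.s - k + 1) (2 * k - C.s - 1) with hF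
    set F1 := C.E (C.s - k) (2 * k - C.s - 1) with hF1
    have hyF : ∀ f ∈ F1, D.y * f * D.y⁻¹ ∈ F := fun f hf => by
      rw [hyF1 f hf]
      have h := C.map_E 1 (C.s - k) (2 * k - C.s - 1)
      rw [pow_one, add_comm 1] at h
      exact h.le ⟨f, hf, rfl⟩
    have hFF1 : ∀ f ∈ F, D.y * f * D.y⁻¹ ∈ F1 := fun f hf => by
      obtain ⟨f', hf', rfl⟩ : ∃ f' ∈ F1, C.φ f' = f := by
        have h := C.map_E 1 (C.s - k) (2 * k - C.s - 1)
        rw [pow_one, add_comm 1] at h
        exact h.ge hf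
      rw [← hyF1 f' hf', hy2fix f' (C.E_le le_rfl (by omega) hf')]
      exact hf'
    have hQy : (F ⊓ F1).map (MulAut.conj D.y).toMonoidHom = F ⊓ F1 := by
      refine Subgroup.eq_of_le_of_card_ge ?_ (Subgroup.card_map_of_injective (MulEquiv.injective _)).ge
      rintro _ ⟨f, ⟨hf, hf'⟩, rfl⟩
      exact ⟨hyF f hf', hFF1 f hf⟩
    have hbot := D.core (F ⊓ F1) (inf_le_left.trans (hP ▸ C.E_le (Nat.zero_le _) (by omega)))
      (Subgroup.le_normalizer_iff.mpr fun g hg v hv => by
        rw [← (hFcent v hv.1 g hg).eq, mul_inv_cancel_right]; exact hv) hQy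
    have hX : C.X (C.s - k + 1) ∈ F ⊓ F1 :=
      ⟨C.X_mem le_rfl (by omega), C.X_mem (by omega) (by omega)⟩
    rw [hbot, Subgroup.mem_bot] at hX
    exact C.X_notMem_left (a := C.s - k + 1) (m := 0) (by omega) (hX ▸ one_mem _)
  have hw : C.x * C.X k * C.x * C.X k ≠ 1 := K.w_ne
  rcases (show (k = 2 ∧ C.s = 3) ∨ (k = 3 ∧ C.s = 4) ∨ (k = 4 ∧ C.s = 6) by omega) with
    ⟨hk, hs⟩ | ⟨hk, hs⟩ | ⟨hk, hs⟩
  · -- `s = 3`
    rw [hk] at hwE hw
    have hwX : C.x * C.X 2 * C.x * C.X 2 = C.X 1 :=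
      (C.eq_or_eq (by omega) (C.E_le (a' := 1) (m' := 1) (by omega) (by omega) hwE)).resolve_left hw
    have hX1c : ∀ v ∈ D.P, Commute (C.X 1) v := hcen _ (C.X_mem (by omega) (by omega))
    have hy1 : D.y * C.X 1 * D.y⁻¹ = C.X 1 := by
      have hmem : D.y * C.X 1 * D.y⁻¹ ∈ C.E 0 C.s := hP.symm ▸ D.conj_y (hXP 1 (by omega))
      have h : D.y * C.X 1 * D.y⁻¹ ∈ C.E (C.s - k) (2 * k + 0 - C.s) :=
        K.central (lo := 0) (by omega) (by rwa [Nat.sub_zero]) fun i _ hi => by
          obtain ⟨v, hv, hvi⟩ := D.yP.ge (hXP i hi)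
          rw [← hvi]
          exact ((hX1c v hv).map (MulAut.conj D.y)).symm
      refine (C.eq_or_eq (by omega) (C.E_le (a' := 1) (m' := 1) (by omega) (by omega) h)).resolve_left
        fun h0 => ?_
      rw [mul_inv_eq_one, mul_eq_left] at h0
      exact C.X_notMem_left (a := 1) (m := 0) (by omega) (h0 ▸ one_mem _)
    have hcw : D.c * C.X 1 * D.c⁻¹ = C.X 2 := by
      have h := hφv (C.X 1)
      rw [hy1] at h
      rw [← h, C.X_add 1 1, pow_one]
    have hc12 : Commute (C.X 1) (C.X 2) := K.commX (by omega) (by omega)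
    have hxu : C.x * C.X 2 * C.x = C.X 2 * C.X 1 := by
      rw [← hc12.eq, ← hwX, mul_assoc _ (C.X 2) (C.X 2), C.X_sq, mul_one]
    have hxw : Commute C.x (C.X 1) := K.comm 1 (by omega)
    refine ⟨C.x, C.X 1, C.X 2, ⊥,
      { hx := hxP, hxR := hxR, xsq := C.sq, hw := hXR 1 le_rfl (by omega),
        hu := hXR 2 (by omega) (by omega), wsq := C.X_sq 1, usq := C.X_sq 2, wu := hc12,
        xw := hxw, xu := hxu, cw := hcw,
        cu := D.cu_of hxP hxR C.sq (fun r hr => (hX1c r (D.hRP hr)).symm) hxw hxu (C.X_sq 2) hcw,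
        ne := fun h => C.X_notMem_left (a := 1) (m := 0) (by omega) (h ▸ one_mem _),
        hFR := bot_le, hF := fun f hf h _ => by rw [Subgroup.mem_bot.mp hf]; exact Commute.one_left h,
        cardF := by rw [Subgroup.card_bot]; omega,
        cardR := by rw [← hR, C.card_E (by omega), Subgroup.card_bot, hs]; rfl,
        cover := fun r hr => ⟨r, ?_, 1, one_mem _, (mul_one r).symm⟩ }⟩
    rw [← hR] at hr
    refine C.E_le_of (K := Subgroup.closure {C.X 1, C.X 2}) (fun i h1 h2 => ?_) hr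
    rcases (show i = 1 ∨ i = 2 by omega) with rfl | rfl <;> exact Subgroup.subset_closure (by simp)
  · -- `s = 4`
    rw [hk] at hwE hw
    set w := C.x * C.X 3 * C.x * C.X 3 with hwdef
    have hw12 : w ∈ C.E 1 2 := C.E_le (by omega) (by omega) hwE
    have hcX : ∀ i, 1 ≤ i → i ≤ 2 → ∀ v ∈ D.P, Commute (C.X i) v := fun i h1 h2 =>
      hcen _ (C.X_mem (by omega) (by omega))
    have hX2H : ∀ h ∈ D.H, Commute (C.X 2) h := hFcent _ (C.X_mem (by omega) (by omega))
    have hy1 : D.y * C.X 1 * D.y⁻¹ = C.X 2 := by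
      rw [hyF1 _ (C.X_mem (by omega) (by omega)), C.X_add 1 1, pow_one]
    have hy22 : D.y * C.X 2 * D.y⁻¹ = C.X 1 := by
      rw [← hy1, hy2fix _ (C.X_mem (by omega) (by omega))]
    have hwc : ∀ v ∈ D.P, Commute w v := hcen _ (C.E_le (by omega) (by omega) hw12)
    have hRab : ∀ r ∈ D.R, ∀ r' ∈ D.R, Commute r r' := fun r hr r' hr' => by
      rw [← hR] at hr hr'
      exact K.commE (by omega) (by omega) hr hr'
    have hxw : Commute C.x w := (hwc C.x hxP).symm
    have hw2 : w * w = 1 := K.sqE (by omega) hw12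
    have hwi : w⁻¹ = w := inv_eq_of_mul_eq_one_right hw2
    have hxi : C.x⁻¹ = C.x := inv_eq_of_mul_eq_one_right C.sq
    have hc3 : Commute w (C.X 3) := hwc _ (hXP 3 (by omega))
    have hx3 : C.x * C.X 3 * C.x = C.X 3 * w := by
      rw [← hc3.eq, hwdef, mul_assoc _ (C.X 3) (C.X 3), C.X_sq, mul_one]
    -- commutators
    have hxr : ∀ r ∈ D.R, C.x * r * C.x * r⁻¹ = 1 ∨ C.x * r * C.x * r⁻¹ = w := by
      intro r hr
      rw [← hR, show C.s - 1 = 2 + 1 by omega] at hr
      rcases C.decomp_right (a := 1) (m := 2) (by omega) hr with h | h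
      · left
        rw [(hcen r (C.E_le (by omega) (by omega) h) C.x hxP).symm.eq, mul_assoc r, C.sq, mul_one,
          mul_inv_cancel]
      · right
        set z := r * C.X (1 + 2) with hz
        have hr' : r = z * C.X 3 := by rw [hz, mul_assoc, C.X_sq, mul_one]
        have hzc : Commute z C.x := hcen z (C.E_le (by omega) (by omega) h) C.x hxP
        calc C.x * r * C.x * r⁻¹ = z * (C.x * C.X 3 * C.x) * (C.X 3)⁻¹ * z⁻¹ := by
              rw [hr', mul_inv_rev, ← mul_assoc C.x z, ← hzc.eq]; group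
          _ = _ := by
            rw [hx3, hc3.symm.eq, ← mul_assoc z w, mul_inv_cancel_right,
              (hcen z (C.E_le (by omega) (by omega) h) w
              (hP ▸ C.E_le (Nat.zero_le _) (by omega) hw12)).eq, mul_inv_cancel_right]
    have hsplit : ∀ g ∈ D.P, g ∈ D.R ∨ ∃ r ∈ D.R, g = C.x * r := by
      intro g hg
      rw [← hP, show C.s = 3 + 1 by omega] at hg
      rcases C.decomp_left (a := 0) (m := 3) (by omega) hg with h | h
      · exact Or.inl (by rw [← hR, show C.s - 1 = 3 by omega]; exact h)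
      · rw [C.X_zero] at h
        exact Or.inr ⟨C.x * g, by rw [← hR, show C.s - 1 = 3 by omega]; exact h,
          by rw [← mul_assoc, C.sq, one_mul]⟩
    have hcom : ∀ g ∈ D.P, ∀ g' ∈ D.P, g * g' * g⁻¹ * g'⁻¹ = 1 ∨ g * g' * g⁻¹ * g'⁻¹ = w := by
      intro g hg g' hg'
      rcases hsplit g hg with hr | ⟨r, hr, rfl⟩ <;> rcases hsplit g' hg' with hr' | ⟨r', hr', rfl⟩
      · left
        rw [(hRab g hr g' hr').eq, mul_inv_cancel_right, mul_inv_cancel]
      · have e : g * (C.x * r') * g⁻¹ * (C.x * r')⁻¹ = (C.x * g * C.x * g⁻¹)⁻¹ := by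
          rw [mul_inv_rev C.x r', hxi]
          calc g * (C.x * r') * g⁻¹ * (r'⁻¹ * C.x) = g * C.x * (r' * g⁻¹ * r'⁻¹) * C.x := by group
            _ = _ := by
              rw [(hRab r' hr' g⁻¹ (inv_mem hr)).eq, mul_inv_cancel_right, mul_inv_rev, mul_inv_rev,
                mul_inv_rev, inv_inv, hxi]
              group
        rw [e]
        rcases hxr g hr with h | h <;> rw [h]
        · exact Or.inl inv_one
        · exact Or.inr hwi
      · have e : C.x * r * g' * (C.x * r)⁻¹ * g'⁻¹ = C.x * g' * C.x * g'⁻¹ := by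
          rw [mul_inv_rev C.x r, hxi, mul_assoc C.x r g', (hRab r hr g' hr').eq]
          group
        rw [e]
        exact hxr g' hr'
      · have e : C.x * r * (C.x * r') * (C.x * r)⁻¹ * (C.x * r')⁻¹ =
            (C.x * r * C.x * r⁻¹) * (C.x * r'⁻¹ * C.x * r'⁻¹⁻¹) := by
          rw [mul_inv_rev C.x r, mul_inv_rev C.x r', hxi]
          calc C.x * r * (C.x * r') * (r⁻¹ * C.x) * (r'⁻¹ * C.x)
              = C.x * r * C.x * (r' * r⁻¹) * C.x * r'⁻¹ * C.x := by group
            _ = C.x * r * C.x * r⁻¹ * (r' * (C.x * r'⁻¹ * C.x)) := by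
              rw [(hRab r' hr' r⁻¹ (inv_mem hr)).eq]; group
            _ = _ := by
              have hs' : C.x * r'⁻¹ * C.x ∈ D.R := by
                have := Subgroup.le_normalizer_iff.mp D.RN C.x (D.hPH hxP) r'⁻¹ (inv_mem hr')
                rwa [hxi] at this
              rw [inv_inv, (hRab r' hr' _ hs').eq]
        rw [e]
        rcases hxr r hr with h | h <;> rcases hxr r'⁻¹ (inv_mem hr') with h' | h' <;> rw [h, h']
        · exact Or.inl (one_mul 1)
        · exact Or.inr (one_mul w)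
        · exact Or.inr (mul_one w)
        · exact Or.inl hw2
    have hyw : D.y * w * D.y⁻¹ = w := by
      have e : D.y * w * D.y⁻¹ = (D.y * C.x * D.y⁻¹) * (D.y * C.X 3 * D.y⁻¹) * (D.y * C.x * D.y⁻¹)⁻¹ *
          (D.y * C.X 3 * D.y⁻¹)⁻¹ := by
        rw [hwdef]
        calc D.y * (C.x * C.X 3 * C.x * C.X 3) * D.y⁻¹ =
            D.y * (C.x * C.X 3 * C.x⁻¹ * (C.X 3)⁻¹) * D.y⁻¹ := by rw [hxi, C.X_inv]
          _ = _ := by group
      rcases hcom _ (D.conj_y hxP) _ (D.conj_y (hXP 3 (by omega))) with h | h <;> rw [← e] at h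
      · rw [mul_inv_eq_one, mul_eq_left] at h
        exact absurd h hw
      · exact h
    have hw' : w = C.X 1 * C.X 2 := by
      have h12 : C.X 1 ≠ C.X 2 := fun h =>
        C.X_notMem_left (a := 1) (m := 1) (by omega) (h ▸ C.X_mem (by omega) (by omega))
      rcases C.eq_of_pair (by omega) hw12 with h | h | h | h
      · exact absurd h hw
      · rw [h, hy1] at hyw
        exact absurd hyw.symm h12
      · rw [h, hy22] at hyw
        exact absurd hyw h12
      · exact h
    have hc23 : Commute (C.X 2) (C.X 3) := hX2H _ (D.hPH (hXP 3 (by omega)))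
    have hcw : D.c * w * D.c⁻¹ = C.X 2 * C.X 3 := by
      have h := hφv w
      rw [hyw] at h
      have hs1 : ∀ i, C.φ (C.X i) = C.X (1 + i) := fun i => by rw [C.X_add 1 i, pow_one]
      rw [← h, hw', map_mul, hs1, hs1]
    have hxu : C.x * (C.X 2 * C.X 3) * C.x = C.X 2 * C.X 3 * w := by
      rw [← mul_assoc C.x, (hcX 2 (by omega) le_rfl C.x hxP).symm.eq, mul_assoc (C.X 2) C.x,
        mul_assoc (C.X 2), hx3, ← mul_assoc]
    have husq : C.X 2 * C.X 3 * (C.X 2 * C.X 3) = 1 := by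
      rw [hc23.symm.mul_mul_mul_comm, C.X_sq, C.X_sq, one_mul]
    refine ⟨C.x, w, C.X 2 * C.X 3, C.E 2 1,
      { hx := hxP, hxR := hxR, xsq := C.sq, hw := hR ▸ C.E_le le_rfl (by omega) hw12,
        hu := mul_mem (hXR 2 (by omega) (by omega)) (hXR 3 (by omega) (by omega)), wsq := hw2,
        usq := husq,
        wu := (hwc _ (hXP 2 (by omega))).mul_right hc3,
        xw := hxw, xu := hxu, cw := hcw,
        cu := D.cu_of hxP hxR C.sq (fun r hr => (hwc r (D.hRP hr)).symm) hxw hxu husq hcw,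
        ne := hw, hFR := hR ▸ C.E_le (by omega) (by omega),
        hF := fun f hf => hFcent f (C.E_le (by omega) (by omega) hf),
        cardF := by rw [C.card_E (by omega)]; rfl,
        cardR := by rw [← hR, C.card_E (by omega), C.card_E (by omega), hs]; rfl,
        cover := ?_ }⟩
    intro r hr
    set L := Subgroup.closure {w, C.X 2 * C.X 3}
    have hn : C.E 2 1 ≤ Subgroup.normalizer (L : Set G) := Subgroup.le_normalizer_iff.mpr
      fun f hf v hv => by
        have hvH : v ∈ D.H := by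
          refine ((Subgroup.closure_le _).mpr ?_) hv
          rintro _ (rfl | rfl)
          · exact D.hPH (hP ▸ C.E_le (Nat.zero_le _) (by omega) hw12)
          · exact mul_mem (D.hPH (hXP 2 (by omega))) (D.hPH (hXP 3 (by omega)))
        rw [(hFcent f (C.E_le (by omega) (by omega) hf) v hvH).eq, mul_inv_cancel_right]
        exact hv
    have hle : D.R ≤ L ⊔ C.E 2 1 := by
      rw [← hR]
      refine C.E_le_of fun i h1 h2 => ?_
      have hX2 : C.X 2 ∈ L ⊔ C.E 2 1 := Subgroup.mem_sup_right (C.X_mem le_rfl (by omega))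
      have hwL : w ∈ L ⊔ C.E 2 1 := Subgroup.mem_sup_left (Subgroup.subset_closure (by simp))
      have huL : C.X 2 * C.X 3 ∈ L ⊔ C.E 2 1 := Subgroup.mem_sup_left (Subgroup.subset_closure (by simp))
      rcases (show i = 1 ∨ i = 2 ∨ i = 3 by omega) with rfl | rfl | rfl
      · have h := mul_mem hwL hX2
        rwa [hw', mul_assoc, C.X_sq, mul_one] at h
      · exact hX2
      · have h := mul_mem hX2 huL
        rwa [C.X_cancel] at h
    obtain ⟨l, hl, f, hf, e⟩ := (Coprime.mem_sup_of_le_normalizer hn).mp (hle hr)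
    exact ⟨l, hl, f, hf, e.symm⟩
  · -- `s = 6` is impossible
    exfalso
    have hI' : (C.E 1 4).map (MulAut.conj D.y).toMonoidHom = C.E 1 4 := by
      simpa [hs] using hI
    have hφI : ∀ v, v ∈ C.E 2 4 ↔ D.c⁻¹ * v * D.c ∈ C.E 1 4 := by
      have h := C.map_E 1 1 4
      rw [pow_one] at h
      intro v
      constructor
      · intro hv
        obtain ⟨v', hv', rfl⟩ := h.ge hv
        rw [show C.φ.toMonoidHom v' = C.φ v' from rfl, hφv]
        have hm : D.y * v' * D.y⁻¹ ∈ C.E 1 4 := hI'.le ⟨v', hv', rfl⟩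
        simpa [mul_assoc] using hm
      · intro hv
        obtain ⟨v', hv', he⟩ := hI'.ge hv
        refine h.le ⟨v', hv', ?_⟩
        show C.φ v' = v
        rw [hφv, show D.y * v' * D.y⁻¹ = D.c⁻¹ * v * D.c from he]
        group
    have h24 : ∀ v ∈ C.E 2 4, D.c * v * D.c⁻¹ ∈ C.E 1 4 ∨ D.c * v * D.c⁻¹ ∈ C.E 2 4 := by
      intro v hv
      refine K.sq_one_mem hs hk ?_ ?_
      · have := Subgroup.le_normalizer_iff.mp D.RN _ D.hcH v (hR ▸ C.E_le (by omega) (by omega) hv)
        rw [← hR, hs] at this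
        exact this
      · rw [show D.c * v * D.c⁻¹ * (D.c * v * D.c⁻¹) = D.c * (v * v) * D.c⁻¹ by group,
          K.sqE (by omega) hv, mul_one, mul_inv_cancel]
    set B := (C.E 2 4).map (MulAut.conj D.c).toMonoidHom
    have hne : ¬ C.E 2 4 ≤ C.E 1 4 := fun h =>
      C.X_notMem_right (a := 1) (m := 4) (by omega) (h (C.X_mem (by omega) (by omega)))
    have hB : B ≤ C.E 1 4 := by
      rcases le_or_le (S := B) (fun v hv => by obtain ⟨u, hu, rfl⟩ := hv; exact h24 u hu) with h | h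
      · exact h
      · exfalso
        have heq : B = C.E 2 4 := Subgroup.eq_of_le_of_card_ge h
          (Subgroup.card_map_of_injective (MulEquiv.injective _)).ge
        refine hne fun u hu => ?_
        have h3 := (hφI (D.c * u * D.c⁻¹)).mp (heq.le ⟨u, hu, rfl⟩)
        simpa [mul_assoc] using h3
    have hBeq : B = C.E 1 4 := Subgroup.eq_of_le_of_card_ge hB (by
      rw [Subgroup.card_map_of_injective (MulEquiv.injective _), C.card_E (by omega), C.card_E (by omega)])
    have hc2 : D.c ^ 2 ∈ Subgroup.normalizer (C.E 1 4 : Set G) := by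
      refine Subgroup.mem_normalizer_iff_map_conj_eq.mpr (Subgroup.eq_of_le_of_card_ge ?_
        (Subgroup.card_map_of_injective (MulEquiv.injective _)).ge)
      rintro _ ⟨v, hv, rfl⟩
      have h1 : D.c * v * D.c⁻¹ ∈ C.E 2 4 := by
        rw [hφI]; simpa [mul_assoc] using hv
      have h2 := hBeq.le ⟨_, h1, rfl⟩
      simpa [pow_two, mul_assoc] using h2
    obtain ⟨j, hj⟩ := exists_pow_eq_self_of_coprime (x := D.c) (n := 2)
      (Nat.coprime_two_left.mpr D.codd)
    have hc : D.c ∈ Subgroup.normalizer (C.E 1 4 : Set G) := hj ▸ pow_mem hc2 j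
    refine hne fun v hv => ?_
    have h := (hφI v).mp hv
    have h2 := (Subgroup.mem_normalizer_iff.mp hc _).mp h
    simpa [mul_assoc] using h2

end Cfsg.Agent.LocalFlavell.DihedralChain
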