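import Cfsg.Agent.LocalFlavell.DihedralChain.Chain
import Cfsg.Agent.Lib.Cores.Basic
import Cfsg.Agent.Lib.Coprime.Basic

/-!
From a subgroup with dihedral quotient over its `2`-core and an element moving that core to a chain of
translates.
-/

set_option autoImplicit false

namespace Cfsg.Agent.LocalFlavell.DihedralChain

variable {G : Type*} [Group G]

/-- A dihedral quotient `H / R` and an element `y` normalising the Sylow `2`-subgroup `P`. -/
structure Data (G : Type*) [Group G] where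
  H : Subgroup G
  P : Subgroup G
  R : Subgroup G
  c : G
  y : G
  n : ℕ
  npos : 0 < n
  hPH : P ≤ H
  hcH : c ∈ H
  codd : Odd (orderOf c)
  ordc : orderOf c = n
  hRP : R ≤ P
  hR : P ⊓ P.map (MulAut.conj c).toMonoidHom = R
  two : Nat.card P = 2 * Nat.card R
  pgroup : IsPGroup 2 P
  hne : R ≠ ⊥
  RN : H ≤ Subgroup.normalizer (R : Set G)
  gen : H ≤ P ⊔ P.map (MulAut.conj c).toMonoidHom
  cardH : Nat.card H = 2 * n * Nat.card R
  rot : ∀ g ∈ H, Odd (orderOf g) → ∃ i : ℕ, ∃ r ∈ R, g = r * c ^ i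
  refl : ∀ t ∈ P, t ∉ R → c * (t * c * t⁻¹) ∈ R
  yP : P.map (MulAut.conj y).toMonoidHom = P
  y2 : ∃ p ∈ P, ∃ q ∈ Subgroup.centralizer (P : Set G), y ^ 2 = p * q
  core : ∀ Q ≤ P, H ≤ Subgroup.normalizer (Q : Set G) → Q.map (MulAut.conj y).toMonoidHom = Q → Q = ⊥

theorem dihedral_mul_conj {n : ℕ} (i j : ZMod n) :
    DihedralGroup.r j * DihedralGroup.sr i * (DihedralGroup.r j)⁻¹ = DihedralGroup.sr (i - 2 * j) := by
  rw [DihedralGroup.inv_r, DihedralGroup.r_mul_sr, DihedralGroup.sr_mul_r]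
  ring_nf

theorem exists_data [Finite G] (H : Subgroup G) (hO : Cfsg.pCore 2 ↥H ≠ ⊥) (n : ℕ) (hn : 2 ≤ n)
    (hdih : Nonempty (↥H ⧸ Cfsg.pCore 2 ↥H ≃* DihedralGroup n)) (P : Subgroup G) (hPH : P ≤ H)
    (hP : IsPGroup 2 P) (hPsyl : ¬ 2 ∣ P.relIndex H) (y : G)
    (hy2 : y ^ 2 ∈ P ⊔ Subgroup.centralizer (P : Set G)) (hyN : P.map (MulAut.conj y).toMonoidHom = P)
    (hyQ : ∀ Q : Subgroup G, Q ≤ P → (Q.subgroupOf H).Normal →
      Q.map (MulAut.conj y).toMonoidHom = Q → Q = ⊥) :
    ∃ D : Data G, D.H = H ∧ D.P = P := by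
  classical
  haveI : Fact (Nat.Prime 2) := ⟨Nat.prime_two⟩
  haveI : NeZero n := ⟨by omega⟩
  obtain ⟨e⟩ := hdih
  let R0 : Subgroup H := Cfsg.pCore 2 ↥H
  let ψ : H →* DihedralGroup n := e.toMonoidHom.comp (QuotientGroup.mk' R0)
  have hψs : Function.Surjective ψ := e.surjective.comp (QuotientGroup.mk'_surjective R0)
  have hker : ψ.ker = R0 := by
    ext u
    simp [ψ, MonoidHom.mem_ker]
  -- `n` is odd
  have hnodd : Odd n := by
    rw [← Nat.not_even_iff_odd]
    rintro ⟨m, hm⟩
    let z : DihedralGroup n := DihedralGroup.r (m : ZMod n)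
    have hmm : (m : ZMod n) + m = 0 := by rw [← Nat.cast_add, ← hm, ZMod.natCast_self]
    have hz2 : z ^ 2 = 1 := by
      rw [pow_two]
      show DihedralGroup.r _ * DihedralGroup.r _ = 1
      rw [DihedralGroup.r_mul_r, hmm]; rfl
    have hz1 : z ≠ 1 := fun h => by
      injection h with h'
      rw [ZMod.natCast_eq_zero_iff] at h'
      have := Nat.le_of_dvd (by omega) h'
      omega
    have hzc : ∀ d, d * z * d⁻¹ = z := by
      rintro (i | i)
      · show DihedralGroup.r i * DihedralGroup.r _ * (DihedralGroup.r i)⁻¹ = DihedralGroup.r _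
        rw [DihedralGroup.inv_r, DihedralGroup.r_mul_r, DihedralGroup.r_mul_r]
        ring_nf
      · show DihedralGroup.sr i * DihedralGroup.r _ * (DihedralGroup.sr i)⁻¹ = DihedralGroup.r _
        rw [DihedralGroup.inv_sr, DihedralGroup.sr_mul_r, DihedralGroup.sr_mul_sr]
        congr 1
        calc i - (i + (m : ZMod n)) = -(m : ZMod n) := by ring
          _ = m := neg_eq_of_add_eq_zero_left hmm
    haveI : (Subgroup.zpowers z).Normal := ⟨fun d hd g => by
      obtain ⟨k, rfl⟩ := Subgroup.mem_zpowers_iff.mp hd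
      rw [← conj_zpow, hzc]
      exact Subgroup.zpow_mem_zpowers z k⟩
    have hpz : IsPGroup 2 (Subgroup.zpowers z) := by
      intro d
      obtain ⟨k, hk⟩ := Subgroup.mem_zpowers_iff.mp d.2
      refine ⟨1, Subtype.ext ?_⟩
      rw [pow_one, SubmonoidClass.coe_pow, ← hk, ← zpow_natCast, ← zpow_mul, mul_comm, zpow_mul,
        zpow_natCast, hz2, one_zpow]
      rfl
    have hbig : IsPGroup 2 ((Subgroup.zpowers z).comap ψ) :=
      hpz.comap_of_ker_isPGroup ψ (hker ▸ Cores.pCore_isPGroup 2)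
    obtain ⟨g, hg⟩ := hψs z
    have hgR : g ∈ ψ.ker := hker ▸ Cores.le_pCore hbig (Subgroup.mem_comap.mpr (hg ▸ Subgroup.mem_zpowers z))
    exact hz1 (hg.symm.trans hgR)
  -- the Sylow subgroup over the core
  let P0 : Subgroup H := P.subgroupOf H
  have hP0 : IsPGroup 2 P0 := hP.of_equiv (Subgroup.subgroupOfEquivOfLe hPH).symm
  have hP0i : ¬ 2 ∣ P0.index := hPsyl
  let S : Sylow 2 H := hP0.toSylow hP0i
  have hRP0 : R0 ≤ P0 := Cores.pCore_le_sylow S
  have hcardH : Nat.card H = Nat.card R0 * (2 * n) := by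
    rw [← R0.card_mul_index, Subgroup.index_eq_card, Nat.card_congr e.toEquiv, DihedralGroup.nat_card]
  obtain ⟨a, ha⟩ := IsPGroup.iff_card.mp hP0
  obtain ⟨b, hb⟩ := IsPGroup.iff_card.mp (Cores.pCore_isPGroup (G := H) 2)
  have hcard2 : Nat.card P0 = 2 * Nat.card R0 := by
    have hsyl := S.card_eq_multiplicity
    have hS : Nat.card (S : Subgroup H) = Nat.card P0 := rfl
    rw [hS] at hsyl
    rw [hsyl, hcardH, show Nat.card R0 = 2 ^ b from hb, ← mul_assoc, ← pow_succ,
      Nat.factorization_mul (pow_ne_zero _ two_ne_zero) (by omega), Nat.prime_two.factorization_pow,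
      Finsupp.add_apply, Finsupp.single_eq_same,
      Nat.factorization_eq_zero_of_not_dvd (by rw [← Nat.even_iff.trans Nat.dvd_iff_mod_eq_zero.symm]; exact Nat.not_even_iff_odd.mpr hnodd),
      add_zero, pow_succ']
  -- a reflection in `P`
  obtain ⟨t, htP, htR⟩ : ∃ t ∈ P0, t ∉ R0 := by
    by_contra h
    push Not at h
    have := Subgroup.card_le_of_le (show P0 ≤ R0 from h)
    have := Nat.card_pos (α := R0)
    omega
  have hsplit : ∀ u ∈ P0, u ∈ R0 ∨ ψ u = ψ t := by
    intro u hu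
    refine or_iff_not_imp_left.mpr fun hu' => ?_
    have h := mul_mem_of_two hRP0 hcard2 hu (inv_mem htP) hu' (fun h => htR (inv_mem_iff.mp h))
    rw [← hker, MonoidHom.mem_ker, map_mul, map_inv, mul_inv_eq_one] at h
    exact h
  obtain ⟨i, hi⟩ : ∃ i, ψ t = DihedralGroup.sr i := by
    cases h : ψ t with
    | sr i => exact ⟨i, rfl⟩
    | r i =>
      exfalso
      have h2 : ψ t * ψ t = 1 := by
        rcases hsplit (t * t) (mul_mem htP htP) with h' | h'
        · rw [← map_mul, ← MonoidHom.mem_ker, hker]; exact h'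
        · rw [map_mul] at h'
          exact absurd (by rw [← hker, MonoidHom.mem_ker]; exact mul_eq_left.mp h') htR
      rw [h, DihedralGroup.r_mul_r] at h2
      injection h2 with h3
      have hi0 : i = 0 := by
        have h2u : IsUnit ((2 : ℕ) : ZMod n) := by
          rw [ZMod.isUnit_iff_coprime]
          exact Nat.coprime_two_left.mpr hnodd
        refine h2u.mul_left_cancel ?_
        rw [Nat.cast_two, two_mul, h3, mul_zero]
      exact htR (by rw [← hker, MonoidHom.mem_ker, h, hi0]; rfl)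
  -- a rotation of odd order
  obtain ⟨c₁, hc₁⟩ := hψs (DihedralGroup.r 1)
  obtain ⟨m, d, hd, hmd⟩ := Nat.exists_eq_two_pow_mul_odd (orderOf_pos c₁).ne'
  let c0 : H := c₁ ^ 2 ^ m
  have hc0o : orderOf c0 = d := by
    rw [orderOf_pow' _ (by positivity), hmd, Nat.gcd_eq_right (dvd_mul_right _ _), Nat.mul_div_cancel_left _ (by positivity)]
  have hψc : ψ c0 = DihedralGroup.r ((2 ^ m : ℕ) : ZMod n) := by
    rw [map_pow, hc₁, DihedralGroup.r_one_pow]
  have hunit : ∀ k : ℕ, IsUnit ((2 ^ k : ℕ) : ZMod n) := fun k => by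
    rw [ZMod.isUnit_iff_coprime]
    exact (Nat.coprime_two_left.mpr hnodd).pow_left k
  have hordn : orderOf (ψ c0) = n := by
    rw [map_pow, hc₁, orderOf_pow' _ (by positivity), DihedralGroup.orderOf_r_one,
      Nat.Coprime.gcd_eq_one (Nat.coprime_two_right.mpr hnodd |>.pow_right m), Nat.div_one]
  have hinter : ∀ j : ℕ, c0 ^ j ∈ R0 → c0 ^ j = 1 := by
    intro j hj
    obtain ⟨l, hl⟩ := IsPGroup.iff_orderOf.mp (Cores.pCore_isPGroup (G := H) 2) ⟨c0 ^ j, hj⟩
    rw [Subgroup.orderOf_mk] at hl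
    have hd' : orderOf (c0 ^ j) ∣ d := hc0o ▸ orderOf_pow_dvd j
    rw [hl] at hd'
    rw [← orderOf_eq_one_iff, hl]
    exact Nat.eq_one_of_dvd_coprimes ((Nat.coprime_two_left.mpr hd).pow_left l) dvd_rfl hd'
  have hordc : orderOf c0 = n := by
    refine Nat.dvd_antisymm (orderOf_dvd_of_pow_eq_one (hinter n ?_)) (hordn ▸ orderOf_map_dvd ψ c0)
    rw [← hker, MonoidHom.mem_ker, map_pow]
    exact orderOf_dvd_iff_pow_eq_one.mp hordn.dvd
  have hgenR : ∀ k : ZMod n, ∃ j : ℕ, ψ (c0 ^ j) = DihedralGroup.r k := fun k => by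
    obtain ⟨u, hu⟩ := hunit m
    refine ⟨((↑u⁻¹ : ZMod n) * k).val, ?_⟩
    rw [map_pow, hψc, DihedralGroup.r_pow, ZMod.natCast_zmod_val, ← hu, Units.mul_inv_cancel_left]
  let R : Subgroup G := R0.map H.subtype
  let Pc : Subgroup G := P.map (MulAut.conj (c0 : G)).toMonoidHom
  have hRP : R ≤ P := by
    rintro _ ⟨r, hr, rfl⟩
    exact hRP0 hr
  have hRN : H ≤ Subgroup.normalizer (R : Set G) := by
    rw [Subgroup.le_normalizer_iff]
    rintro g hg _ ⟨r, hr, rfl⟩
    exact ⟨⟨g, hg⟩ * r * (⟨g, hg⟩ : H)⁻¹, (inferInstance : R0.Normal).conj_mem r hr _, rfl⟩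
  have hRPc : R ≤ Pc := fun r hr => by
    refine ⟨(c0 : G)⁻¹ * r * (c0 : G), hRP ?_, by simp [mul_assoc]⟩
    simpa using Subgroup.le_normalizer_iff.mp hRN _ (inv_mem c0.2) r hr
  have hcardR : Nat.card R = Nat.card R0 := Subgroup.card_map_of_injective H.subtype_injective
  refine ⟨{ H := H, P := P, R := R, c := c0, y := y, n := n, npos := by omega, hPH := hPH, hcH := c0.2,
            codd := ?_, ordc := ?_, hRP := hRP, hR := ?_, two := ?_, pgroup := hP, hne := ?_, RN := hRN,
            gen := ?_, cardH := ?_, rot := ?_, refl := ?_, yP := hyN, y2 := ?_, core := ?_ }, rfl, rfl⟩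
  · rw [Subgroup.orderOf_coe, hordc]; exact hnodd
  · rw [Subgroup.orderOf_coe, hordc]
  · refine le_antisymm ?_ (le_inf hRP hRPc)
    rintro g ⟨hg, u, hu, hug⟩
    by_contra hgR
    rcases hsplit ⟨g, hPH hg⟩ hg with h | h
    · exact hgR ⟨_, h, rfl⟩
    have hgu : (⟨g, hPH hg⟩ : H) = c0 * ⟨u, hPH hu⟩ * c0⁻¹ := Subtype.ext hug.symm
    rcases hsplit ⟨u, hPH hu⟩ hu with h' | h'
    · exact hgR ⟨⟨g, hPH hg⟩, hgu ▸ (inferInstance : R0.Normal).conj_mem _ h' c0, rfl⟩
    rw [hgu, map_mul, map_mul, map_inv, h', hψc, hi, dihedral_mul_conj] at h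
    injection h with h''
    have hz : (2 : ZMod n) * ((2 ^ m : ℕ) : ZMod n) = 0 := by linear_combination -h''
    haveI : Nontrivial (ZMod n) := ZMod.nontrivial_iff.mpr (by omega)
    have h2 := ((Nat.cast_two (R := ZMod n)) ▸ hunit 1 : IsUnit (2 : ZMod n)).mul (hunit m)
    exact h2.ne_zero hz
  · rw [← Nat.card_congr (Subgroup.subgroupOfEquivOfLe hPH).toEquiv, hcardR]; exact hcard2
  · intro h
    refine hO ((Subgroup.eq_bot_iff_forall _).mpr fun r hr => Subtype.ext ?_)
    exact Subgroup.mem_bot.mp (h.le ⟨r, hr, rfl⟩)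
  · let K := P ⊔ Pc
    have htK : (t : G) ∈ K := Subgroup.mem_sup_left htP
    have htcK : (c0 : G) * t * (c0 : G)⁻¹ ∈ K := Subgroup.mem_sup_right ⟨t, htP, by simp⟩
    have hψt : ψ (c0 * t * c0⁻¹) = DihedralGroup.sr (i - 2 * ((2 ^ m : ℕ) : ZMod n)) := by
      rw [map_mul, map_mul, map_inv, hψc, hi, dihedral_mul_conj]
    intro g hg
    let K0 := (K.subgroupOf H)
    have hR0K : ψ.ker ≤ K0 := fun r hr => Subgroup.mem_sup_left (hRP ⟨r, hker ▸ hr, rfl⟩)
    suffices hall : K0.map ψ = ⊤ by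
      have : K0 = ⊤ := by
        have h := congrArg (Subgroup.comap ψ) hall
        rwa [Subgroup.comap_map_eq, Subgroup.comap_top, sup_eq_left.mpr hR0K] at h
      exact Subgroup.mem_subgroupOf.mp (this ▸ Subgroup.mem_top (⟨g, hg⟩ : H))
    have hsr : DihedralGroup.sr i ∈ K0.map ψ := ⟨t, htK, hi⟩
    have hr2 : DihedralGroup.r (-2 * ((2 ^ m : ℕ) : ZMod n)) ∈ K0.map ψ := by
      have h := mul_mem hsr (⟨_, htcK, hψt⟩ : DihedralGroup.sr (i - 2 * ((2 ^ m : ℕ) : ZMod n)) ∈ K0.map ψ)
      rw [DihedralGroup.sr_mul_sr] at h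
      rwa [show i - 2 * ((2 ^ m : ℕ) : ZMod n) - i = -2 * ((2 ^ m : ℕ) : ZMod n) by ring] at h
    have hu2 : IsUnit (-2 * ((2 ^ m : ℕ) : ZMod n)) :=
      (((Nat.cast_two (R := ZMod n)) ▸ hunit 1 : IsUnit (2 : ZMod n)).neg).mul (hunit m)
    have hr : ∀ k : ZMod n, DihedralGroup.r k ∈ K0.map ψ := fun k => by
      obtain ⟨u, hu⟩ := hu2
      have h := pow_mem hr2 ((↑u⁻¹ : ZMod n) * k).val
      rwa [DihedralGroup.r_pow, ZMod.natCast_zmod_val, ← hu, Units.mul_inv_cancel_left] at h
    refine top_le_iff.mp ?_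
    rintro (k | k) -
    · exact hr k
    · have h := mul_mem hsr (hr (k - i))
      rwa [DihedralGroup.sr_mul_r, add_sub_cancel] at h
  · rw [hcardH, hcardR]; ring
  · intro g hg hodd
    cases hcase : ψ ⟨g, hg⟩ with
    | sr k =>
      exfalso
      have h1 := orderOf_map_dvd ψ (⟨g, hg⟩ : H)
      rw [hcase, DihedralGroup.orderOf_sr, Subgroup.orderOf_mk] at h1
      exact (Nat.not_even_iff_odd.mpr hodd) ((even_iff_two_dvd).mpr h1)
    | r k =>
      obtain ⟨j, hj⟩ := hgenR k
      have hmem : (⟨g, hg⟩ : H) * (c0 ^ j)⁻¹ ∈ R0 := by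
        rw [← hker, MonoidHom.mem_ker, map_mul, map_inv, hj, hcase, mul_inv_cancel]
      exact ⟨j, _, ⟨_, hmem, rfl⟩, by simp⟩
  · intro u hu huR
    rcases hsplit ⟨u, hPH hu⟩ hu with h | h
    · exact absurd ⟨_, h, rfl⟩ huR
    refine ⟨c0 * (⟨u, hPH hu⟩ * c0 * (⟨u, hPH hu⟩ : H)⁻¹), ?_, by simp⟩
    rw [← hker, SetLike.mem_coe, MonoidHom.mem_ker, map_mul, map_mul, map_mul, map_inv, h, hψc, hi,
      DihedralGroup.inv_sr, DihedralGroup.sr_mul_r, DihedralGroup.sr_mul_sr, DihedralGroup.r_mul_r,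
      show ∀ a : ZMod n, a + (i - (i + a)) = 0 from fun a => by ring]
    rfl
  · rw [sup_comm] at hy2
    obtain ⟨q, hq, p, hp, h⟩ := (Coprime.mem_sup_of_le_normalizer (N := Subgroup.centralizer (P : Set G))
      (Subgroup.le_normalizer_iff.mpr fun a ha q hq => Subgroup.mem_centralizer_iff.mpr fun b hb => by
        have hb' : a⁻¹ * b * a ∈ P := mul_mem (mul_mem (inv_mem ha) hb) ha
        have := Subgroup.mem_centralizer_iff.mp hq _ hb'
        calc b * (a * q * a⁻¹) = a * (a⁻¹ * b * a * q) * a⁻¹ := by group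
          _ = a * (q * (a⁻¹ * b * a)) * a⁻¹ := by rw [this]
          _ = a * q * a⁻¹ * b := by group)).mp hy2
    exact ⟨p, hp, q, hq, h.symm.trans (Subgroup.mem_centralizer_iff.mp hq p hp).symm⟩
  · exact fun Q hQ hQN hyQ' => hyQ Q hQ
      ((Subgroup.normal_subgroupOf_iff_le_normalizer (hQ.trans hPH)).mpr hQN) hyQ'

namespace Data

variable (D : Data G)

/-- The translating automorphism. -/
def φ : MulAut G := MulAut.conj (D.c * D.y)

theorem φ_apply (v : G) : D.φ v = D.c * (D.y * v * D.y⁻¹) * D.c⁻¹ := by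
  rw [φ, MulAut.conj_apply, mul_inv_rev]
  simp only [mul_assoc]

theorem conj_y {v : G} (hv : v ∈ D.P) : D.y * v * D.y⁻¹ ∈ D.P :=
  D.yP.le ⟨v, hv, rfl⟩

theorem map_φ : D.P.map D.φ.toMonoidHom = D.P.map (MulAut.conj D.c).toMonoidHom := by
  conv_rhs => rw [← D.yP, Subgroup.map_map]
  congr 1
  ext v
  exact D.φ_apply v

/-- The intersections of the inverse translates of `P`. -/
def K : ℕ → Subgroup G
  | 0 => D.P
  | j + 1 => D.P ⊓ (K j).comap D.φ.toMonoidHom

theorem K_le_P (j : ℕ) : D.K j ≤ D.P := by cases j with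
  | zero => exact le_rfl
  | succ j => exact inf_le_left

theorem K_succ_le : ∀ j, D.K (j + 1) ≤ D.K j
  | 0 => D.K_le_P 1
  | j + 1 => inf_le_inf_left _ (Subgroup.comap_mono (K_succ_le j))

theorem card_K [Finite G] : ∀ j, Nat.card (D.K j) ≤ 2 * Nat.card (D.K (j + 1))
  | 0 => by
    have h : (D.K 1).map D.φ.toMonoidHom = D.R := by
      show (D.P ⊓ D.P.comap D.φ.toMonoidHom).map D.φ.toMonoidHom = D.R
      rw [Subgroup.map_inf_eq _ _ _ D.φ.injective, Subgroup.map_comap_eq_self_of_surjective D.φ.surjective,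
        D.map_φ, inf_comm, D.hR]
    have hc : Nat.card ((D.K 1).map D.φ.toMonoidHom) = Nat.card (D.K 1) :=
      Subgroup.card_map_of_injective D.φ.injective
    rw [h] at hc
    show Nat.card D.P ≤ 2 * Nat.card (D.K 1)
    rw [← hc]
    exact D.two.le
  | j + 1 => by
    have hcm : ∀ A : Subgroup G, Nat.card (A.comap D.φ.toMonoidHom) = Nat.card A := fun A => by
      rw [← Subgroup.card_map_of_injective (f := D.φ.toMonoidHom) D.φ.injective,
        Subgroup.map_comap_eq_self_of_surjective D.φ.surjective]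
    have hcard := card_K j
    rw [← hcm (D.K j), ← hcm (D.K (j + 1))] at hcard
    have hle : (D.K (j + 1)).comap D.φ.toMonoidHom ≤ (D.K j).comap D.φ.toMonoidHom :=
      Subgroup.comap_mono (D.K_succ_le j)
    show Nat.card ↥(D.P ⊓ (D.K j).comap D.φ.toMonoidHom) ≤
      2 * Nat.card ↥(D.P ⊓ (D.K (j + 1)).comap D.φ.toMonoidHom)
    set A := (D.K (j + 1)).comap D.φ.toMonoidHom
    set B := (D.K j).comap D.φ.toMonoidHom
    have h1 : A.relIndex B ≤ 2 := by
      have h := Subgroup.relIndex_mul_relIndex ⊥ A B bot_le hle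
      rw [Subgroup.relIndex_bot_left, Subgroup.relIndex_bot_left] at h
      refine Nat.le_of_mul_le_mul_left ?_ (Nat.card_pos (α := A))
      rw [h]; linarith
    have hne0 : A.relIndex B ≠ 0 := fun h0 => by
      have h := Subgroup.relIndex_mul_relIndex ⊥ A B bot_le hle
      rw [h0, mul_zero, Subgroup.relIndex_bot_left] at h
      exact (Nat.card_pos (α := B)).ne h
    have h2 : (D.P ⊓ A).relIndex (D.P ⊓ B) ≤ 2 := by
      refine le_trans (le_of_eq ?_) (le_trans (Subgroup.relIndex_le_of_le_right (inf_le_right : D.P ⊓ B ≤ B)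
        hne0) h1)
      rw [← Subgroup.inf_relIndex_right (H := A)]
      congr 1
      exact le_antisymm (le_inf inf_le_right (le_inf inf_le_left (inf_le_right.trans hle)))
        (le_inf (inf_le_right.trans inf_le_left) inf_le_left)
    have h3 := Subgroup.relIndex_mul_relIndex ⊥ (D.P ⊓ A) (D.P ⊓ B) bot_le (inf_le_inf_left _ hle)
    rw [Subgroup.relIndex_bot_left, Subgroup.relIndex_bot_left] at h3
    rw [← h3, mul_comm 2]
    exact Nat.mul_le_mul_left _ h2

theorem mem_K_succ {v : G} {j : ℕ} : v ∈ D.K (j + 1) ↔ v ∈ D.P ∧ D.φ v ∈ D.K j := Iff.rfl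

theorem exists_chain [Finite G] : ∃ C : Chain G, C.φ = D.φ ∧ C.E 0 C.s = D.P ∧
    C.E 1 (C.s - 1) = D.R ∧ 2 ≤ C.s := by
  classical
  have hex : ∃ j, D.K (j + 1) = D.K j := by
    by_contra h
    push Not at h
    have hd : ∀ j, Nat.card (D.K j) + j ≤ Nat.card (D.K 0) := by
      intro j
      induction j with
      | zero => exact le_rfl
      | succ j ih =>
        have : Nat.card (D.K (j + 1)) < Nat.card (D.K j) := lt_of_le_of_ne
          (Subgroup.card_le_of_le (D.K_succ_le j))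
          fun e => h j (Subgroup.eq_of_le_of_card_ge (D.K_succ_le j) e.ge)
        omega
    have := hd (Nat.card (D.K 0) + 1)
    omega
  set s := Nat.find hex
  have hs : D.K (s + 1) = D.K s := Nat.find_spec hex
  have hlt : ∀ j < s, D.K (j + 1) ≠ D.K j := fun j hj => Nat.find_min hex hj
  have hcardeq : ∀ j < s, Nat.card (D.K j) = 2 * Nat.card (D.K (j + 1)) := by
    intro j hj
    obtain ⟨e, he⟩ := Subgroup.card_dvd_of_le (D.K_succ_le j)
    have h2 := D.card_K j
    have hne : Nat.card (D.K j) ≠ Nat.card (D.K (j + 1)) := fun h =>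
      hlt j hj (Subgroup.eq_of_le_of_card_ge (D.K_succ_le j) h.le)
    have hpos := Nat.card_pos (α := D.K j)
    rcases (show e = 0 ∨ e = 1 ∨ e = 2 ∨ 3 ≤ e by omega) with rfl | rfl | rfl | he3
    · omega
    · omega
    · omega
    · nlinarith [Nat.mul_le_mul_left (Nat.card (D.K (j + 1))) he3, Nat.card_pos (α := D.K (j + 1))]
  -- the stable intersection is trivial
  set Q := D.K s with hQ
  have hQsub : Q ≤ Q.comap D.φ.toMonoidHom := fun v hv => (D.mem_K_succ.mp (hs.ge hv)).2
  have hQφ : Q.map D.φ.toMonoidHom = Q := by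
    refine Subgroup.eq_of_le_of_card_ge (Subgroup.map_le_iff_le_comap.mpr hQsub) ?_
    rw [Subgroup.card_map_of_injective D.φ.injective]
  have hspos : 1 ≤ s := by
    by_contra h
    have hs0 : s = 0 := by omega
    have : D.K 1 = D.K 0 := by
      have h1 := hs
      simp only [hQ, hs0] at h1
      exact h1
    have hmap : D.P.map D.φ.toMonoidHom = D.P := by
      refine Subgroup.eq_of_le_of_card_ge ?_ (Subgroup.card_map_of_injective D.φ.injective).ge
      rintro _ ⟨v, hv, rfl⟩
      exact (D.mem_K_succ.mp (this.ge hv : v ∈ D.K 1)).2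
    have h2 := D.two
    rw [← D.hR, ← D.map_φ, hmap, inf_idem] at h2
    have := Nat.card_pos (α := D.P)
    omega
  obtain ⟨x, hxK, hxQ⟩ : ∃ x ∈ D.K (s - 1), x ∉ Q := by
    by_contra h
    push Not at h
    have hj := hlt (s - 1) (by omega)
    rw [Nat.sub_add_cancel hspos] at hj
    exact hj (le_antisymm (by simpa [Nat.sub_add_cancel hspos] using D.K_succ_le (s - 1)) h)
  let X : ℕ → G := fun i => (D.φ ^ i) x
  have hXsucc : ∀ i, X (i + 1) = D.φ (X i) := fun i => by
    show (D.φ ^ (i + 1)) x = _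
    rw [pow_succ', MulAut.mul_apply]
  have hXmem : ∀ i < s, X i ∈ D.K (s - 1 - i) := by
    intro i
    induction i with
    | zero => intro _; show x ∈ _; simpa using hxK
    | succ i ih =>
      intro hi
      have h := ih (by omega)
      rw [show s - 1 - i = s - 1 - (i + 1) + 1 by omega, D.mem_K_succ] at h
      rw [hXsucc]
      exact h.2
  have hXnot : ∀ i < s, X i ∉ D.K (s - i) := by
    intro i
    induction i with
    | zero => intro _; show x ∉ _; simpa using hxQ
    | succ i ih =>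
      intro hi h
      rw [hXsucc] at h
      refine ih (by omega) ?_
      rw [show s - i = s - (i + 1) + 1 by omega, D.mem_K_succ]
      exact ⟨D.K_le_P _ (hXmem i (by omega)), h⟩
  have hgen : ∀ m ≤ s, D.K (s - m) = Subgroup.closure (X '' Set.Ico 0 m) ⊔ Q := by
    intro m
    induction m with
    | zero => intro _; simp [hQ]
    | succ m ih =>
      intro hm
      have h1 := ih (by omega)
      have hj : s - m = s - (m + 1) + 1 := by omega
      have hmem : X m ∈ D.K (s - (m + 1)) := by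
        rw [show s - (m + 1) = s - 1 - m by omega]; exact hXmem m (by omega)
      have hle : Subgroup.closure (X '' Set.Ico 0 (m + 1)) ⊔ Q ≤ D.K (s - (m + 1)) := by
        refine sup_le ((Subgroup.closure_le _).mpr ?_) ?_
        · rintro _ ⟨i, ⟨-, hi⟩, rfl⟩
          rcases (show i < m ∨ i = m by omega) with hi' | rfl
          · refine hj ▸ D.K_succ_le _ |> fun hle' => hle' ?_
            rw [h1]
            exact Subgroup.mem_sup_left (Subgroup.subset_closure ⟨i, ⟨by omega, hi'⟩, rfl⟩)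
          · exact hmem
        · have hh : D.K (s - m) ≤ D.K (s - (m + 1)) := by rw [hj]; exact D.K_succ_le _
          exact (le_sup_right.trans h1.ge).trans hh
      refine le_antisymm ?_ hle
      intro v hv
      by_cases hvk : v ∈ D.K (s - m)
      · rw [h1] at hvk
        exact sup_le_sup_right (Subgroup.closure_mono (Set.image_mono (Set.Ico_subset_Ico_right (Nat.le_succ m)))) _ hvk
      · have hsub : D.K (s - m) ≤ D.K (s - (m + 1)) := by rw [hj]; exact D.K_succ_le _
        have h2 := mul_mem_of_two hsub (by rw [hj]; exact hcardeq _ (by omega)) hv hmem hvk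
          (hXnot m (by omega))
        rw [h1] at h2
        have h3 := mul_mem (sup_le_sup_right (Subgroup.closure_mono (Set.image_mono (Set.Ico_subset_Ico_right (Nat.le_succ m)))) Q h2)
          (inv_mem (Subgroup.mem_sup_left (Subgroup.subset_closure ⟨m, ⟨by omega, by omega⟩, rfl⟩) :
            X m ∈ Subgroup.closure (X '' Set.Ico 0 (m + 1)) ⊔ Q))
        rwa [mul_inv_cancel_right] at h3
  have hnormX : ∀ i, X i ∈ Subgroup.normalizer (Q : Set G) := by
    intro i
    induction i with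
    | zero =>
      show x ∈ _
      have hc := hcardeq (s - 1) (by omega)
      have hle : Q ≤ D.K (s - 1) := by simpa [Nat.sub_add_cancel hspos] using D.K_succ_le (s - 1)
      rw [Nat.sub_add_cancel hspos] at hc
      exact Subgroup.le_normalizer_of_normal_subgroupOf
        (hK := Subgroup.normal_of_index_eq_two (relIndex_two hle hc)) hle hxK
    | succ i ih =>
      rw [hXsucc]
      rw [Subgroup.mem_normalizer_iff] at ih ⊢
      intro v
      have hw : ∀ w, D.φ w ∈ Q ↔ w ∈ Q := fun w => by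
        constructor
        · intro h
          obtain ⟨u, hu, hue⟩ := hQφ.ge h
          rwa [← D.φ.injective hue]
        · exact fun h => hQsub h
      obtain ⟨u, rfl⟩ := D.φ.surjective v
      rw [← map_inv, ← map_mul, ← map_mul, hw, hw]
      exact ih u
  have hP0 : D.P = Subgroup.closure (X '' Set.Ico 0 s) ⊔ Q := by
    have h := hgen s le_rfl
    rwa [Nat.sub_self] at h
  have hPN : D.P ≤ Subgroup.normalizer (Q : Set G) := by
    rw [hP0]
    refine sup_le ((Subgroup.closure_le _).mpr ?_) Subgroup.le_normalizer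
    rintro _ ⟨i, -, rfl⟩
    exact hnormX i
  have hQy : Q.map (MulAut.conj D.c).toMonoidHom = Q → Q.map (MulAut.conj D.y).toMonoidHom = Q := by
    intro hc
    refine Subgroup.map_injective (f := (MulAut.conj D.c).toMonoidHom) (MulEquiv.injective _) ?_
    rw [Subgroup.map_map, hc]
    refine Eq.trans ?_ hQφ
    congr 1
    ext v
    exact (D.φ_apply v).symm
  have hHN : D.H ≤ Subgroup.normalizer (Q : Set G) := by
    refine D.gen.trans (sup_le hPN ?_)
    rw [← D.map_φ]
    rintro _ ⟨v, hv, rfl⟩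
    have hv' := hPN hv
    rw [Subgroup.mem_normalizer_iff_map_conj_eq] at hv' ⊢
    conv_lhs => rw [← hQφ, Subgroup.map_map]
    conv_rhs => rw [← hQφ, ← hv', Subgroup.map_map]
    congr 1
    ext w
    simp
  have hQ1 : Q = ⊥ := D.core Q (D.K_le_P s) hHN
    (hQy (Subgroup.mem_normalizer_iff_map_conj_eq.mp (hHN D.hcH)))
  -- cardinalities
  have hcardX : ∀ m ≤ s, Nat.card (Subgroup.closure (X '' Set.Ico 0 m)) = 2 ^ m := by
    intro m hm
    have h1 : D.K (s - m) = Subgroup.closure (X '' Set.Ico 0 m) := by rw [hgen m hm, hQ1, sup_bot_eq]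
    rw [← h1]
    clear h1
    induction m with
    | zero => rw [Nat.sub_zero, ← hQ, hQ1, Subgroup.card_bot, pow_zero]
    | succ m ih =>
      rw [hcardeq _ (by omega), show s - (m + 1) + 1 = s - m by omega, ih (by omega), pow_succ']
  have hxK1 : x * x = 1 := by
    have hc := hcardeq (s - 1) (by omega)
    rw [Nat.sub_add_cancel hspos, ← hQ, hQ1, Subgroup.card_bot, mul_one] at hc
    haveI : Finite (D.K (s - 1)) := inferInstance
    have := pow_card_eq_one' (x := (⟨x, hxK⟩ : D.K (s - 1)))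
    rw [hc, pow_two] at this
    exact congrArg Subtype.val this
  let C : Chain G := { φ := D.φ, x := x, s := s, sq := hxK1, card0 := hcardX }
  have hPC : C.E 0 s = D.P := by
    rw [hP0, hQ1, sup_bot_eq]
    show Subgroup.closure (X '' Set.Ico 0 (0 + s)) = _
    rw [Nat.zero_add]
  have hRC : C.E 1 (s - 1) = D.R := by
    have h := C.map_E 1 0 (s - 1)
    rw [pow_one] at h
    rw [← h]
    have hK1 : C.E 0 (s - 1) = D.K 1 := by
      have h' := hgen (s - 1) (by omega)
      rw [show s - (s - 1) = 1 by omega, hQ1, sup_bot_eq] at h'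
      rw [h']
      show Subgroup.closure (X '' Set.Ico 0 (0 + (s - 1))) = _
      rw [Nat.zero_add]
    rw [hK1]
    show (D.P ⊓ D.P.comap D.φ.toMonoidHom).map D.φ.toMonoidHom = D.R
    rw [Subgroup.map_inf_eq _ _ _ D.φ.injective, Subgroup.map_comap_eq_self_of_surjective D.φ.surjective,
      D.map_φ, inf_comm, D.hR]
  refine ⟨C, rfl, hPC, hRC, ?_⟩
  by_contra h
  refine D.hne ?_
  rw [← hRC, show s - 1 = 0 from by simp only [C] at h; omega, C.E_zero]

end Data

end Cfsg.Agent.LocalFlavell.DihedralChain
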