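import Mathlib

/-!
A group spanned by the translates of one involution under an automorphism, each new translate doubling
the order: commutators and centres.
-/

set_option autoImplicit false

namespace Cfsg.Agent.LocalFlavell.DihedralChain

variable {G : Type*} [Group G]

/-- `s` translates of an involution `x` under `φ`, any `m` consecutive of them spanning order `2 ^ m`. -/
structure Chain (G : Type*) [Group G] where
  φ : MulAut G
  x : G
  s : ℕ
  sq : x * x = 1
  card0 : ∀ m ≤ s, Nat.card (Subgroup.closure ((fun i : ℕ => (φ ^ i) x) '' Set.Ico 0 m)) = 2 ^ m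

theorem relIndex_two [Finite G] {A B : Subgroup G} (h : A ≤ B) (hc : Nat.card B = 2 * Nat.card A) :
    (A.subgroupOf B).index = 2 := by
  have h1 := (A.subgroupOf B).card_mul_index
  rw [Nat.card_congr (Subgroup.subgroupOfEquivOfLe h).toEquiv, hc, mul_comm 2] at h1
  exact Nat.eq_of_mul_eq_mul_left Nat.card_pos h1

theorem conj_mem_of_two [Finite G] {A B : Subgroup G} (h : A ≤ B) (hc : Nat.card B = 2 * Nat.card A)
    {a b : G} (ha : a ∈ A) (hb : b ∈ B) : b * a * b⁻¹ ∈ A := by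
  haveI := Subgroup.normal_of_index_eq_two (relIndex_two h hc)
  exact Subgroup.Normal.conj_mem (inferInstance : (A.subgroupOf B).Normal) (⟨a, h ha⟩ : B) ha ⟨b, hb⟩

theorem mul_mem_of_two [Finite G] {A B : Subgroup G} (h : A ≤ B) (hc : Nat.card B = 2 * Nat.card A)
    {a b : G} (ha : a ∈ B) (hb : b ∈ B) (ha' : a ∉ A) (hb' : b ∉ A) : a * b ∈ A := by
  have := (Subgroup.mul_mem_iff_of_index_two (relIndex_two h hc) (a := ⟨a, ha⟩) (b := ⟨b, hb⟩)).mpr
    ⟨fun k => absurd k ha', fun k => absurd k hb'⟩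
  exact this

namespace Chain

variable (C : Chain G)

/-- The `i`-th translate. -/
def X (i : ℕ) : G := (C.φ ^ i) C.x

/-- The span of `m` consecutive translates from `a`. -/
def E (a m : ℕ) : Subgroup G := Subgroup.closure (C.X '' Set.Ico a (a + m))

theorem X_zero : C.X 0 = C.x := by rw [X, pow_zero, MulAut.one_apply]

theorem X_add (d i : ℕ) : C.X (d + i) = (C.φ ^ d) (C.X i) := by
  rw [X, X, pow_add, MulAut.mul_apply]

theorem X_sq (i : ℕ) : C.X i * C.X i = 1 := by rw [X, ← map_mul, C.sq, map_one]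

theorem X_inv (i : ℕ) : (C.X i)⁻¹ = C.X i := inv_eq_of_mul_eq_one_right (C.X_sq i)

theorem X_cancel (i : ℕ) (z : G) : C.X i * (C.X i * z) = z := by rw [← mul_assoc, C.X_sq, one_mul]

theorem X_mem {a m i : ℕ} (h1 : a ≤ i) (h2 : i < a + m) : C.X i ∈ C.E a m :=
  Subgroup.subset_closure ⟨i, ⟨h1, h2⟩, rfl⟩

theorem E_le_of {a m : ℕ} {K : Subgroup G} (h : ∀ i, a ≤ i → i < a + m → C.X i ∈ K) : C.E a m ≤ K := by
  refine (Subgroup.closure_le _).mpr ?_
  rintro _ ⟨i, ⟨h1, h2⟩, rfl⟩
  exact h i h1 h2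

theorem E_le {a m a' m' : ℕ} (h1 : a' ≤ a) (h2 : a + m ≤ a' + m') : C.E a m ≤ C.E a' m' :=
  C.E_le_of fun i hi1 hi2 => C.X_mem (h1.trans hi1) (lt_of_lt_of_le hi2 h2)

theorem E_zero (a : ℕ) : C.E a 0 = ⊥ := le_bot_iff.mp (C.E_le_of fun i h1 h2 => by omega)

theorem commute_E {a m : ℕ} {z g : G} (h : ∀ i, a ≤ i → i < a + m → Commute z (C.X i)) (hg : g ∈ C.E a m) :
    Commute z g :=
  (Subgroup.mem_centralizer_singleton_iff.mp ((C.E_le_of (K := Subgroup.centralizer {z})
    fun i h1 h2 => Subgroup.mem_centralizer_singleton_iff.mpr (h i h1 h2).eq.symm) hg)).symm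

theorem map_E (d a m : ℕ) : (C.E a m).map (C.φ ^ d).toMonoidHom = C.E (d + a) m := by
  rw [E, E, MonoidHom.map_closure, ← Set.image_comp]
  congr 1
  ext z
  constructor
  · rintro ⟨i, ⟨h1, h2⟩, rfl⟩
    exact ⟨d + i, ⟨by omega, by omega⟩, C.X_add d i⟩
  · rintro ⟨i, ⟨h1, h2⟩, rfl⟩
    refine ⟨i - d, ⟨by omega, by omega⟩, ?_⟩
    show (C.φ ^ d) (C.X (i - d)) = C.X i
    rw [← C.X_add, Nat.add_sub_cancel' (by omega)]

theorem card_E {a m : ℕ} (hm : m ≤ C.s) : Nat.card (C.E a m) = 2 ^ m := by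
  rw [← Nat.add_zero a, ← C.map_E, Subgroup.card_map_of_injective (C.φ ^ a).injective, E, Nat.zero_add]
  exact C.card0 m hm

variable [Finite G]

theorem card_succ {a a' m : ℕ} (hm : m + 1 ≤ C.s) : Nat.card (C.E a (m + 1)) = 2 * Nat.card (C.E a' m) := by
  rw [C.card_E hm, C.card_E (by omega), pow_succ']

theorem not_le {a m a' m' : ℕ} (hm : m + 1 ≤ C.s) (hm' : m' = m) : ¬ C.E a (m + 1) ≤ C.E a' m' := by
  subst hm'
  intro h
  have := Subgroup.card_le_of_le h
  rw [C.card_E hm, C.card_E (by omega), pow_succ] at this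
  have : 0 < 2 ^ m' := Nat.two_pow_pos _
  omega

theorem X_notMem_right {a m : ℕ} (hm : m + 1 ≤ C.s) : C.X (a + m) ∉ C.E a m := fun h =>
  C.not_le (a := a) (a' := a) hm rfl (C.E_le_of fun i h1 h2 => by
    rcases (show i < a + m ∨ i = a + m by omega) with h3 | rfl
    · exact C.X_mem h1 h3
    · exact h)

theorem X_notMem_left {a m : ℕ} (hm : m + 1 ≤ C.s) : C.X a ∉ C.E (a + 1) m := fun h =>
  C.not_le (a := a) (a' := a + 1) hm rfl (C.E_le_of fun i h1 h2 => by
    rcases (show a + 1 ≤ i ∨ i = a by omega) with h3 | rfl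
    · exact C.X_mem h3 (by omega)
    · exact h)

theorem decomp_right {a m : ℕ} (hm : m + 1 ≤ C.s) {z : G} (hz : z ∈ C.E a (m + 1)) :
    z ∈ C.E a m ∨ z * C.X (a + m) ∈ C.E a m :=
  or_iff_not_imp_left.mpr fun h => mul_mem_of_two (C.E_le le_rfl (by omega)) (C.card_succ hm) hz
    (C.X_mem (by omega) (by omega)) h (C.X_notMem_right hm)

theorem decomp_left {a m : ℕ} (hm : m + 1 ≤ C.s) {z : G} (hz : z ∈ C.E a (m + 1)) :
    z ∈ C.E (a + 1) m ∨ C.X a * z ∈ C.E (a + 1) m :=
  or_iff_not_imp_left.mpr fun h => mul_mem_of_two (C.E_le (by omega) (by omega)) (C.card_succ hm)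
    (C.X_mem le_rfl (by omega)) hz (C.X_notMem_left hm) h

theorem top {a : ℕ} : ∀ {m : ℕ}, m ≤ C.s → ∀ {z : G}, z ∈ C.E a m → z ≠ 1 →
    ∃ b, a ≤ b ∧ b < a + m ∧ z * C.X b ∈ C.E a (b - a) := by
  intro m
  induction m with
  | zero =>
    intro _ z hz h1
    rw [C.E_zero, Subgroup.mem_bot] at hz
    exact absurd hz h1
  | succ m ih =>
    intro hm z hz h1
    rcases C.decomp_right hm hz with h | h
    · obtain ⟨b, hb1, hb2, hb3⟩ := ih (by omega) h h1
      exact ⟨b, hb1, by omega, hb3⟩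
    · exact ⟨a + m, by omega, by omega, by rwa [Nat.add_sub_cancel_left]⟩

theorem bot : ∀ {m a : ℕ}, m ≤ C.s → ∀ {z : G}, z ∈ C.E a m → z ≠ 1 →
    ∃ i, a ≤ i ∧ i < a + m ∧ C.X i * z ∈ C.E (i + 1) (a + m - i - 1) := by
  intro m
  induction m with
  | zero =>
    intro a _ z hz h1
    rw [C.E_zero, Subgroup.mem_bot] at hz
    exact absurd hz h1
  | succ m ih =>
    intro a hm z hz h1
    rcases C.decomp_left hm hz with h | h
    · obtain ⟨i, hi1, hi2, hi3⟩ := ih (by omega) h h1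
      exact ⟨i, by omega, by omega, by rwa [show a + (m + 1) - i - 1 = a + 1 + m - i - 1 by omega]⟩
    · exact ⟨a, le_rfl, by omega, by rwa [show a + (m + 1) - a - 1 = m by omega]⟩

theorem inter {a m : ℕ} (hm : m + 2 ≤ C.s) {z : G} (h1 : z ∈ C.E a (m + 1))
    (h2 : z ∈ C.E (a + 1) (m + 1)) : z ∈ C.E (a + 1) m := by
  rcases C.decomp_left (a := a) (m := m) (by omega) h1 with h | h
  · exact h
  · exfalso
    refine C.X_notMem_left (a := a) (m := m + 1) hm ?_
    have h3 := mul_mem (C.E_le le_rfl (Nat.le_succ _) h : C.X a * z ∈ C.E (a + 1) (m + 1)) (inv_mem h2)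
    rwa [mul_inv_cancel_right] at h3

/-- The commutator of two translates lies strictly between them. -/
theorem comm_mem (a : ℕ) {n : ℕ} (h1 : 1 ≤ n) (hn : n + 1 ≤ C.s) :
    C.X a * C.X (a + n) * C.X a * C.X (a + n) ∈ C.E (a + 1) (n - 1) := by
  obtain ⟨m, rfl⟩ : ∃ m, n = m + 1 := ⟨n - 1, by omega⟩
  rw [Nat.add_sub_cancel]
  refine C.inter hn ?_ ?_
  · have h := conj_mem_of_two (C.E_le (a := a) (m := m + 1) (m' := m + 2) le_rfl (by omega))
      (C.card_succ hn) (C.X_mem (i := a) le_rfl (by omega)) (C.X_mem (i := a + (m + 1)) (by omega) (by omega))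
    rw [C.X_inv] at h
    simpa [mul_assoc] using mul_mem (C.X_mem (i := a) le_rfl (by omega) : C.X a ∈ C.E a (m + 1)) h
  · have h := conj_mem_of_two (C.E_le (a := a + 1) (m := m + 1) (a' := a) (m' := m + 2) (by omega) (by omega))
      (C.card_succ hn) (C.X_mem (i := a + (m + 1)) (by omega) (by omega)) (C.X_mem (i := a) le_rfl (by omega))
    rw [C.X_inv] at h
    exact mul_mem h (C.X_mem (by omega) (by omega))

end Chain

/-- The gap: translates less than `k` apart commute, and translates `k` apart do not. -/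
structure Gap (C : Chain G) (k : ℕ) : Prop where
  pos : 1 ≤ k
  lt : k + 1 ≤ C.s
  comm : ∀ d < k, Commute C.x (C.X d)
  ne : ¬ Commute C.x (C.X k)

namespace Gap

variable {C : Chain G} {k : ℕ} (K : Gap C k)
include K

theorem commX {i j : ℕ} (h1 : i < j + k) (h2 : j < i + k) : Commute (C.X i) (C.X j) := by
  wlog hij : i ≤ j generalizing i j with H
  · exact (H h2 h1 (by omega)).symm
  obtain ⟨d, rfl⟩ := Nat.exists_eq_add_of_le hij
  have := (K.comm d (by omega)).map (C.φ ^ i)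
  rwa [← C.X_zero, ← C.X_add, ← C.X_add, Nat.add_zero] at this

theorem neX (i : ℕ) : ¬ Commute (C.X i) (C.X (i + k)) := fun h => by
  refine K.ne ?_
  have := h.map (C.φ ^ i).symm
  rwa [show C.X i = (C.φ ^ i) C.x from rfl, C.X_add i k, MulEquiv.symm_apply_apply,
    MulEquiv.symm_apply_apply] at this

theorem commE {a m a' m' : ℕ} (h : a + m ≤ a' + k) (h' : a' + m' ≤ a + k) {g g' : G} (hg : g ∈ C.E a m)
    (hg' : g' ∈ C.E a' m') : Commute g g' := by
  refine C.commute_E (fun j hj1 hj2 => ?_) hg'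
  exact (C.commute_E (fun i hi1 hi2 => K.commX (by omega) (by omega)) hg).symm

theorem sqE {a m : ℕ} (hm : m ≤ k) {g : G} (hg : g ∈ C.E a m) : g * g = 1 := by
  have key : ∀ g ∈ C.E a m, g ∈ C.E a m ∧ g * g = 1 := fun g hg => by
    induction hg using Subgroup.closure_induction with
    | mem g hg =>
      obtain ⟨i, ⟨h1, h2⟩, rfl⟩ := hg
      exact ⟨C.X_mem h1 h2, C.X_sq i⟩
    | one => exact ⟨one_mem _, one_mul 1⟩
    | mul g g' _ _ h h' =>
      refine ⟨mul_mem h.1 h'.1, ?_⟩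
      rw [(K.commE (by omega) (by omega) h'.1 h.1).mul_mul_mul_comm, h.2, h'.2, one_mul]
    | inv g _ h => exact ⟨inv_mem h.1, by rw [← mul_inv_rev, h.2, inv_one]⟩
  exact (key g hg).2

variable [Finite G]

theorem x_comm_shift {j : ℕ} (hj : j < k) (hn : j + k + 1 ≤ C.s) :
    Commute C.x (C.X j * C.X (j + k) * C.X j * C.X (j + k)) := by
  have hk := K.pos
  set u := C.X (j + k) * C.x * C.X (j + k) * C.x with hu
  have hu' : u ∈ C.E 1 (j + k - 1) := by
    have h := inv_mem (C.comm_mem 0 (n := j + k) (by omega) hn)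
    simp only [Nat.zero_add, C.X_zero] at h
    rw [mul_inv_rev, mul_inv_rev, mul_inv_rev, C.X_inv,
      ← C.X_zero, C.X_inv, C.X_zero, ← mul_assoc, ← mul_assoc] at h
    exact h
  have hju : Commute (C.X j) u := C.commute_E (fun i h1 h2 => K.commX (by omega) (by omega)) hu'
  have hxj : Commute C.x (C.X j) := K.comm j hj
  have hx : C.x * C.X (j + k) * C.x = C.X (j + k) * u := by
    rw [hu, mul_assoc (C.X (j + k)) C.x, mul_assoc (C.X (j + k)), C.X_cancel]
  have hinv : u⁻¹ * C.X (j + k) = C.X (j + k) * u := by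
    have h : (C.x * C.X (j + k) * C.x)⁻¹ = C.x * C.X (j + k) * C.x := by
      rw [mul_inv_rev, mul_inv_rev, C.X_inv, inv_eq_of_mul_eq_one_right C.sq, mul_assoc]
    rwa [hx, mul_inv_rev, C.X_inv] at h
  have hxjx : C.x * C.X j * C.x = C.X j := by rw [hxj.eq, mul_assoc, C.sq, mul_one]
  show C.x * _ = _ * C.x
  calc C.x * (C.X j * C.X (j + k) * C.X j * C.X (j + k))
      = (C.x * C.X j * C.x) * (C.x * C.X (j + k) * C.x) * (C.x * C.X j * C.x) *
          (C.x * C.X (j + k) * C.x) * C.x := by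
        simp only [mul_assoc, C.sq, mul_one]
        simp only [← mul_assoc (C.x) C.x, C.sq, one_mul]
    _ = C.X j * (C.X (j + k) * u) * C.X j * (u⁻¹ * C.X (j + k)) * C.x := by rw [hxjx, hx, hinv]
    _ = C.X j * C.X (j + k) * (u * C.X j * u⁻¹) * C.X (j + k) * C.x := by simp only [mul_assoc]
    _ = _ := by rw [hju.eq.symm, mul_inv_cancel_right]

theorem X_comm_w {i : ℕ} (hik : k ≤ i) (hi : i < 2 * k) (hn : i + 1 ≤ C.s) :
    Commute (C.X i) (C.x * C.X k * C.x * C.X k) := by
  have hk := K.pos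
  set u := C.x * C.X i * C.x * C.X i with hu
  have hu' : u ∈ C.E 1 (i - 1) := by
    have h := C.comm_mem 0 (n := i) (by omega) hn
    simp only [Nat.zero_add, C.X_zero] at h
    exact h
  have hku : Commute (C.X k) u := C.commute_E (fun l h1 h2 => K.commX (by omega) (by omega)) hu'
  have hx : C.X i * C.x * C.X i = C.x * u := by
    rw [hu, mul_assoc C.x (C.X i), mul_assoc C.x, ← mul_assoc C.x C.x, C.sq, one_mul]
  have hinv : u⁻¹ * C.x = C.x * u := by
    have h : (C.X i * C.x * C.X i)⁻¹ = C.X i * C.x * C.X i := by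
      rw [mul_inv_rev, mul_inv_rev, C.X_inv, inv_eq_of_mul_eq_one_right C.sq, mul_assoc]
    rwa [hx, mul_inv_rev, inv_eq_of_mul_eq_one_right C.sq] at h
  have hxkx : C.X i * C.X k * C.X i = C.X k := by
    rw [(K.commX (i := i) (j := k) (by omega) (by omega)).eq, mul_assoc, C.X_sq, mul_one]
  show C.X i * _ = _ * C.X i
  calc C.X i * (C.x * C.X k * C.x * C.X k)
      = (C.X i * C.x * C.X i) * (C.X i * C.X k * C.X i) * (C.X i * C.x * C.X i) *
          (C.X i * C.X k * C.X i) * C.X i := by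
        simp only [mul_assoc, C.X_sq, mul_one, C.X_cancel]
    _ = C.x * u * C.X k * (u⁻¹ * C.x) * C.X k * C.X i := by rw [hxkx, hx, hinv]
    _ = C.x * (u * C.X k * u⁻¹) * C.x * C.X k * C.X i := by simp only [mul_assoc]
    _ = _ := by rw [hku.eq.symm, mul_inv_cancel_right]

theorem w_ne : C.x * C.X k * C.x * C.X k ≠ 1 := fun h => K.ne (by
  show C.x * C.X k = C.X k * C.x
  calc C.x * C.X k = C.x * C.X k * C.x * C.X k * (C.X k * C.x) := by
        rw [mul_assoc (C.x * C.X k * C.x), C.X_cancel, mul_assoc, C.sq, mul_one]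
    _ = _ := by rw [h, one_mul])

/-- The commutator `[x, X k]` spans indices between `s - k` and `2k - s`. -/
theorem bounds : ∃ a b, C.s ≤ a + k ∧ a ≤ b ∧ C.s + b ≤ 2 * k ∧ 1 ≤ a ∧
    C.x * C.X k * C.x * C.X k ∈ C.E a (b + 1 - a) := by
  have hlt := K.lt
  have hk := K.pos
  have hw : C.x * C.X k * C.x * C.X k ∈ C.E 1 (k - 1) := by
    have h := C.comm_mem 0 (n := k) hk hlt
    simp only [Nat.zero_add, C.X_zero] at h
    exact h
  obtain ⟨a, ha1, ha2, ha3⟩ := C.bot (by omega) hw K.w_ne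
  have hsa : C.s ≤ a + k := by
    by_contra hcon
    have hcw := K.X_comm_w (i := a + k) (by omega) (by omega) (by omega)
    have hc' : Commute (C.X (a + k)) (C.X a * (C.x * C.X k * C.x * C.X k)) :=
      C.commute_E (fun l h1 h2 => K.commX (by omega) (by omega)) ha3
    have := hc'.mul_right hcw.inv_right
    rw [mul_inv_cancel_right] at this
    exact K.neX a this.symm
  have hwa : C.x * C.X k * C.x * C.X k ∈ C.E a (k - a) := by
    have h := mul_mem (C.X_mem (i := a) le_rfl (by omega) : C.X a ∈ C.E a (k - a))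
      (C.E_le (a' := a) (m' := k - a) (by omega) (by omega) ha3)
    rwa [C.X_cancel] at h
  obtain ⟨b, hb1, hb2, hb3⟩ := C.top (by omega) hwa K.w_ne
  refine ⟨a, b, hsa, hb1, ?_, ha1, ?_⟩
  · by_contra hcon
    have hj := K.x_comm_shift (j := k - b) (by omega) (by omega)
    have e : C.X (k - b) * C.X (k - b + k) * C.X (k - b) * C.X (k - b + k) =
        (C.φ ^ (k - b)) (C.x * C.X k * C.x * C.X k) := by
      rw [map_mul, map_mul, map_mul, ← C.X_add, ← C.X_zero, ← C.X_add, Nat.add_zero]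
    rw [e] at hj
    have hmem : (C.φ ^ (k - b)) (C.x * C.X k * C.x * C.X k * C.X b) ∈ C.E (k - b + a) (b - a) := by
      rw [← C.map_E]
      exact Subgroup.mem_map_of_mem _ hb3
    have hc' : Commute C.x ((C.φ ^ (k - b)) (C.x * C.X k * C.x * C.X k * C.X b)) :=
      C.commute_E (fun l h1 h2 => K.comm l (by omega)) hmem
    have := hj.inv_right.mul_right hc'
    rw [map_mul _ (C.x * C.X k * C.x * C.X k) (C.X b), inv_mul_cancel_left, ← C.X_add, Nat.sub_add_cancel (by omega)] at this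
    exact K.ne this
  · have h := mul_mem (C.E_le (a' := a) (m' := b + 1 - a) le_rfl (by omega) hb3)
      (C.X_mem (i := b) (a := a) (m := b + 1 - a) hb1 (by omega))
    rwa [mul_assoc, C.X_sq, mul_one] at h

theorem le_two : C.s + 1 ≤ 2 * k := by
  obtain ⟨a, b, h1, h2, h3, h4, -⟩ := K.bounds
  omega

/-- Elements commuting with the translates from `lo` on. -/
theorem central {lo : ℕ} (hlo : lo ≤ 1) {z : G} (hz : z ∈ C.E lo (C.s - lo))
    (hc : ∀ i, lo ≤ i → i < C.s → Commute (C.X i) z) : z ∈ C.E (C.s - k) (2 * k + lo - C.s) := by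
  have h2k := K.le_two
  have hlt := K.lt
  rcases eq_or_ne z 1 with rfl | h1
  · exact one_mem _
  obtain ⟨a, ha1, ha2, ha3⟩ := C.bot (by omega) hz h1
  have hsa : C.s ≤ a + k := by
    by_contra hcon
    have hc' : Commute (C.X (a + k)) (C.X a * z) :=
      C.commute_E (fun l h1 h2 => K.commX (by omega) (by omega)) ha3
    have := hc'.mul_right (hc (a + k) (by omega) (by omega)).inv_right
    rw [mul_inv_cancel_right] at this
    exact K.neX a this.symm
  have hza : z ∈ C.E a (C.s - a) := by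
    have h := mul_mem (C.X_mem (i := a) le_rfl (by omega) : C.X a ∈ C.E a (C.s - a))
      (C.E_le (a' := a) (m' := C.s - a) (by omega) (by omega) ha3)
    rwa [C.X_cancel] at h
  obtain ⟨b, hb1, hb2, hb3⟩ := C.top (by omega) hza h1
  have hbk : b < k + lo := by
    by_contra hcon
    have hc' : Commute (C.X (b - k)) (z * C.X b) :=
      C.commute_E (fun l h1 h2 => K.commX (by omega) (by omega)) hb3
    have := (hc (b - k) (by omega) (by omega)).inv_right.mul_right hc'
    rw [inv_mul_cancel_left] at this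
    have h := K.neX (b - k)
    rw [Nat.sub_add_cancel (by omega)] at h
    exact h this
  have h := mul_mem (C.E_le (a' := C.s - k) (m' := 2 * k + lo - C.s) (by omega) (by omega) hb3)
    (C.X_mem (i := b) (a := C.s - k) (m := 2 * k + lo - C.s) (by omega) (by omega))
  rwa [mul_assoc, C.X_sq, mul_one] at h

/-- Square roots of one in the second term for `s = 6`, `k = 4`. -/
theorem sq_one_mem (hs : C.s = 6) (hk : k = 4) {z : G} (hz : z ∈ C.E 1 5) (h1 : z * z = 1) :
    z ∈ C.E 1 4 ∨ z ∈ C.E 2 4 := by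
  subst hk
  rcases C.decomp_right (a := 1) (m := 4) (by omega) hz with h | h
  · exact Or.inl h
  rcases C.decomp_left (a := 1) (m := 3) (by omega) h with h' | h'
  · refine Or.inr ?_
    have h2 := mul_mem (C.E_le (a' := 2) (m' := 4) (by omega) (by omega) h')
      (C.X_mem (i := 5) (a := 2) (m := 4) (by omega) (by omega))
    rwa [mul_assoc, C.X_sq, mul_one] at h2
  exfalso
  set m := C.X 1 * (z * C.X 5) with hm
  have hc1 : Commute (C.X 1) m := C.commute_E (fun l h1 h2 => K.commX (by omega) (by omega)) h'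
  have hc5 : Commute (C.X 5) m := C.commute_E (fun l h1 h2 => K.commX (by omega) (by omega)) h'
  have hzeq : z = C.X 1 * C.X 5 * m := by
    rw [mul_assoc, hc5.eq, hm, mul_assoc, mul_assoc, C.X_sq, mul_one, C.X_cancel]
  have hcm : Commute m (C.X 1 * C.X 5) := hc1.symm.mul_right hc5.symm
  rw [hzeq, hcm.mul_mul_mul_comm, K.sqE (by omega) h', mul_one] at h1
  refine K.neX 1 ?_
  show C.X 1 * C.X 5 = C.X 5 * C.X 1
  calc C.X 1 * C.X 5 = (C.X 1 * C.X 5)⁻¹ := (inv_eq_of_mul_eq_one_right h1).symm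
    _ = _ := by rw [mul_inv_rev, C.X_inv, C.X_inv]

end Gap

end Cfsg.Agent.LocalFlavell.DihedralChain
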