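import Cfsg.Agent.LocalFlavell.DihedralChain.Analysis
import Cfsg.Agent.Lib.Perm.CubicSuborbit.Structure

/-!
The groups in which a dihedral chain occurs, modulo the odd core.
-/

set_option autoImplicit false

namespace Cfsg.Agent.LocalFlavell.DihedralChain

open Cfsg.Agent.Perm.CubicSuborbit (four equiv_s4)

variable {A : Type*} [Group A] [Finite A]

theorem eq_one_of_sq_of_odd {a : A} (h2 : a * a = 1) {k : ℕ} (hk : a ^ k = 1) (hodd : Odd k) : a = 1 := by
  obtain ⟨l, rfl⟩ := hodd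
  rw [pow_succ, pow_mul, pow_two, h2, one_pow, one_mul] at hk
  exact hk

theorem recognise {R F : Subgroup A} [R.Normal] {c x w u : A} {n : ℕ} (hn : orderOf c = n) (hodd : Odd n)
    (hcard : Nat.card A = 8 * n * Nat.card F) (hxsq : x * x = 1) (hw : w ∈ R) (hu : u ∈ R)
    (wsq : w * w = 1) (usq : u * u = 1) (wu : Commute w u) (xw : Commute x w) (xu : x * u * x = u * w)
    (cw : c * w * c⁻¹ = u) (cu : c * u * c⁻¹ = w * u) (ne : w ≠ 1) (cardF : Nat.card F ≤ 2) (hFR : F ≤ R)
    (hF : F ≤ Subgroup.center A) (cover : ∀ r ∈ R, ∃ a ∈ Subgroup.closure {w, u}, ∃ f ∈ F, r = a * f)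
    (hcx : c * (x * c * x⁻¹) ∈ R) (gen : ∀ K : Subgroup A, R ≤ K → x ∈ K → c ∈ K → K = ⊤)
    (rot : ∀ g : A, Odd (orderOf g) → ∃ i : ℕ, ∃ r ∈ R, g = r * c ^ i) :
    Nonempty (A ⧸ Cfsg.oddCore A ≃* Equiv.Perm (Fin 4) × F) := by
  classical
  have hxi : x⁻¹ = x := inv_eq_of_mul_eq_one_right hxsq
  set R0 : Subgroup A := four wsq usq wu with hR0
  have mem0 : ∀ {z}, z ∈ R0 ↔ z = 1 ∨ z = w ∨ z = u ∨ z = w * u := Iff.rfl
  have hR0R : R0 ≤ R := by
    intro z hz
    rcases mem0.mp hz with rfl | rfl | rfl | rfl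
    exacts [one_mem _, hw, hu, mul_mem hw hu]
  have hcl : Subgroup.closure {w, u} ≤ R0 := by
    rw [Subgroup.closure_le]
    rintro _ (rfl | rfl)
    exacts [mem0.mpr (Or.inr (Or.inl rfl)), mem0.mpr (Or.inr (Or.inr (Or.inl rfl)))]
  have hFc : ∀ f ∈ F, ∀ g : A, Commute f g := fun f hf g => (Subgroup.mem_center_iff.mp (hF hf) g).symm
  have hF2 : ∀ f ∈ F, f * f = 1 := by
    intro f hf
    have h := congrArg Subtype.val (pow_card_eq_one' (x := (⟨f, hf⟩ : F)))
    rw [SubmonoidClass.coe_pow, OneMemClass.coe_one] at h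
    have := Nat.card_pos (α := F)
    rcases (show Nat.card F = 1 ∨ Nat.card F = 2 by omega) with h' | h' <;> rw [h'] at h
    · rw [pow_one] at h
      change f = 1 at h
      rw [h, one_mul]
    · rwa [pow_two] at h
  have hwu2 : w * u * (w * u) = 1 := by rw [wu.symm.mul_mul_mul_comm, wsq, usq, one_mul]
  have hR0sq : ∀ z ∈ R0, z * z = 1 := by
    intro z hz
    rcases mem0.mp hz with rfl | rfl | rfl | rfl
    exacts [one_mul 1, wsq, usq, hwu2]
  have hR0c : ∀ a ∈ R0, ∀ b ∈ R0, Commute a b := by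
    intro a ha b hb
    have h := hR0sq _ (mul_mem ha hb)
    show a * b = b * a
    calc a * b = (a * b)⁻¹ := (inv_eq_of_mul_eq_one_right h).symm
      _ = _ := by
        rw [mul_inv_rev, inv_eq_of_mul_eq_one_right (hR0sq a ha), inv_eq_of_mul_eq_one_right (hR0sq b hb)]
  have hdec : ∀ r ∈ R, ∃ a ∈ R0, ∃ f ∈ F, r = a * f := fun r hr => by
    obtain ⟨a, ha, f, hf, e⟩ := cover r hr
    exact ⟨a, hcl ha, f, hf, e⟩
  have hRsq : ∀ r ∈ R, r * r = 1 := by
    intro r hr
    obtain ⟨a, ha, f, hf, rfl⟩ := hdec r hr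
    rw [(hFc f hf a).mul_mul_mul_comm, hR0sq a ha, hF2 f hf, one_mul]
  have cwu : c * (w * u) * c⁻¹ = w := by
    calc c * (w * u) * c⁻¹ = (c * w * c⁻¹) * (c * u * c⁻¹) := by group
      _ = u * u * w := by rw [cw, cu, wu.eq, mul_assoc]
      _ = w := by rw [usq, one_mul]
  have hfix : ∀ z ∈ R0, c * z * c⁻¹ = z → z = 1 := by
    intro z hz h
    rcases mem0.mp hz with rfl | rfl | rfl | rfl
    · rfl
    · rw [cw] at h
      rw [h] at cu
      rw [cw, h, wsq] at cu
      exact absurd cu ne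
    · rw [cu, mul_eq_right] at h
      exact absurd h ne
    · rw [cwu, left_eq_mul] at h
      rw [h, mul_inv_eq_one, mul_eq_left] at cw
      exact absurd cw ne
  -- an involution inverting `c`
  obtain ⟨a, ha, f, hf, he⟩ := hdec _ hcx
  obtain ⟨r', hr', hkey⟩ : ∃ r' ∈ R0, c * r' * c⁻¹ * a * r' = 1 := by
    rcases mem0.mp ha with h | h | h | h
    · exact ⟨1, one_mem _, by rw [h]; group⟩
    · exact ⟨u, mem0.mpr (Or.inr (Or.inr (Or.inl rfl))), by
        rw [h, cu, wu.eq, mul_assoc u, wsq, mul_one, usq]⟩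
    · exact ⟨w * u, mem0.mpr (Or.inr (Or.inr (Or.inr rfl))), by rw [h, cwu]; exact hwu2⟩
    · exact ⟨w, mem0.mpr (Or.inr (Or.inl rfl)), by
        rw [h, cw, wu.eq, ← mul_assoc u u, usq, one_mul, wsq]⟩
  have hr'i : r'⁻¹ = r' := inv_eq_of_mul_eq_one_right (hR0sq r' hr')
  set t := r' * x with ht
  have hcpow : c ^ n = 1 := hn ▸ pow_orderOf_eq_one c
  have htc : t * c * t⁻¹ = c⁻¹ := by
    have h1 : t * c * t⁻¹ = c⁻¹ * f := by
      have h2 : x * c * x⁻¹ = c⁻¹ * (a * f) := by rw [← he, inv_mul_cancel_left]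
      calc t * c * t⁻¹ = r' * (x * c * x⁻¹) * r'⁻¹ := by rw [ht]; group
        _ = c⁻¹ * (c * r' * c⁻¹ * a * (f * r')) := by rw [h2, hr'i]; group
        _ = c⁻¹ * (c * r' * c⁻¹ * a * r' * f) := by rw [(hFc f hf r').eq]; group
        _ = _ := by rw [hkey, one_mul]
    have h3 : (c⁻¹ * f) ^ n = 1 := by rw [← h1, conj_pow, hcpow, mul_one, mul_inv_cancel]
    rw [(hFc f hf c⁻¹).symm.mul_pow, inv_pow, hcpow, inv_one, one_mul] at h3
    rw [h1, eq_one_of_sq_of_odd (hF2 f hf) h3 hodd, mul_one]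
  have hxR0 : ∀ z ∈ R0, x * z * x ∈ R0 := by
    intro z hz
    rcases mem0.mp hz with rfl | rfl | rfl | rfl
    · rw [mul_one, hxsq]; exact one_mem _
    · rw [xw.eq, mul_assoc, hxsq, mul_one]; exact mem0.mpr (Or.inr (Or.inl rfl))
    · rw [xu, ← wu.eq]; exact mem0.mpr (Or.inr (Or.inr (Or.inr rfl)))
    · rw [← mul_assoc x w, xw.eq, mul_assoc w x, mul_assoc w, xu, wu.symm.eq, ← mul_assoc, wsq, one_mul]
      exact mem0.mpr (Or.inr (Or.inr (Or.inl rfl)))
  have htt : t * t = 1 := by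
    have hmem : t * t ∈ R0 := by
      rw [show t * t = r' * (x * r' * x) by rw [ht]; group]
      exact mul_mem hr' (hxR0 r' hr')
    refine hfix _ hmem ?_
    have h : t * t * c * (t * t)⁻¹ = c := by
      calc t * t * c * (t * t)⁻¹ = t * (t * c * t⁻¹) * t⁻¹ := by group
        _ = t * c⁻¹ * t⁻¹ := by rw [htc]
        _ = (t * c * t⁻¹)⁻¹ := by group
        _ = c := by rw [htc, inv_inv]
    rw [mul_inv_eq_iff_eq_mul] at h ⊢
    exact h.symm
  have hti : t⁻¹ = t := inv_eq_of_mul_eq_one_right htt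
  haveI : NeZero n := ⟨hodd.pos.ne'⟩
  obtain ⟨φ, hφr, hφs⟩ := Cfsg.Agent.S3684.exists_lift n t c htt hcpow
    (by rw [← htc, hti])
  -- `R0` is normalised
  have hnorm : ∀ g : A, (∀ z ∈ R0, g * z * g⁻¹ ∈ R0) → g ∈ Subgroup.normalizer (R0 : Set A) := fun g hg => by
    refine Subgroup.mem_normalizer_iff_map_conj_eq.mpr (Subgroup.eq_of_le_of_card_ge ?_
      (Subgroup.card_map_of_injective (MulEquiv.injective _)).ge)
    rintro _ ⟨z, hz, rfl⟩
    exact hg z hz
  have hcN : c ∈ Subgroup.normalizer (R0 : Set A) := hnorm c fun z hz => by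
    rcases mem0.mp hz with rfl | rfl | rfl | rfl
    · rw [mul_one, mul_inv_cancel]; exact one_mem _
    · rw [cw]; exact mem0.mpr (Or.inr (Or.inr (Or.inl rfl)))
    · rw [cu]; exact mem0.mpr (Or.inr (Or.inr (Or.inr rfl)))
    · rw [cwu]; exact mem0.mpr (Or.inr (Or.inl rfl))
  have hxN : x ∈ Subgroup.normalizer (R0 : Set A) := hnorm x fun z hz => by rw [hxi]; exact hxR0 z hz
  have htN : t ∈ Subgroup.normalizer (R0 : Set A) := mul_mem (Subgroup.le_normalizer hr') hxN
  have hDN : φ.range ≤ Subgroup.normalizer (R0 : Set A) := by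
    rintro _ ⟨(i | i), rfl⟩
    · rw [hφr]; exact pow_mem hcN _
    · rw [hφs]; exact mul_mem htN (pow_mem hcN _)
  set M := R0 ⊔ φ.range with hM
  have hcM : c ∈ M := Subgroup.mem_sup_right ⟨.r 1, by
    rw [hφr]
    rcases Nat.lt_or_ge 1 n with h | h
    · haveI : Fact (1 < n) := ⟨h⟩
      rw [ZMod.val_one, pow_one]
    · obtain rfl : n = 1 := by have := hodd.pos; omega
      rw [pow_one] at hcpow
      rw [hcpow, one_pow]⟩
  have htM : t ∈ M := Subgroup.mem_sup_right ⟨.sr 0, by rw [hφs, ZMod.val_zero, pow_zero, mul_one]⟩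
  have hcard0 : Nat.card R0 ≤ 4 := by
    have e : (R0 : Set A) = ↑({1, w, u, w * u} : Finset A) := by
      ext z
      simp [hR0, four]
    calc Nat.card R0 = (R0 : Set A).ncard := Nat.card_coe_set_eq _
      _ ≤ 4 := by rw [e, Set.ncard_coe_finset]; exact Finset.card_le_four
  have hMle : Nat.card M ≤ 8 * n := by
    have hs : Function.Surjective (fun z : R0 × DihedralGroup n =>
        (⟨(z.1 : A) * φ z.2, mul_mem (Subgroup.mem_sup_left z.1.2) (Subgroup.mem_sup_right ⟨z.2, rfl⟩)⟩ : M)) := by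
      rintro ⟨m, hm⟩
      obtain ⟨z, hz, _, ⟨d, rfl⟩, e⟩ := (Coprime.mem_sup_of_le_normalizer hDN).mp hm
      exact ⟨(⟨z, hz⟩, d), Subtype.ext e⟩
    refine (Nat.card_le_card_of_surjective _ hs).trans ?_
    rw [Nat.card_prod, DihedralGroup.nat_card]
    calc Nat.card R0 * (2 * n) ≤ 4 * (2 * n) := Nat.mul_le_mul_right _ hcard0
      _ = 8 * n := by ring
  -- `A = M × F`
  let e₀ : M × F →* A := MonoidHom.noncommCoprod M.subtype F.subtype fun m f => (hFc f f.2 m).symm
  have hmF : ∀ g, g ∈ M → g ∈ e₀.range := fun g hg => ⟨(⟨g, hg⟩, 1), by simp [e₀, MonoidHom.noncommCoprod]⟩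
  have hfF : ∀ g, g ∈ F → g ∈ e₀.range := fun g hg => ⟨(1, ⟨g, hg⟩), by simp [e₀, MonoidHom.noncommCoprod]⟩
  have hsurj : Function.Surjective e₀ := MonoidHom.range_eq_top.mp (gen _
    (fun r hr => by
      obtain ⟨a', ha', f', hf', rfl⟩ := hdec r hr
      exact mul_mem (hmF _ (Subgroup.mem_sup_left ha')) (hfF _ hf'))
    (by
      rw [show x = r'⁻¹ * t by rw [ht, inv_mul_cancel_left]]
      exact hmF _ (mul_mem (inv_mem (Subgroup.mem_sup_left hr')) htM))
    (hmF _ hcM))
  have hprod : Nat.card A = Nat.card (M × F) := le_antisymm (Nat.card_le_card_of_surjective _ hsurj) (by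
    rw [Nat.card_prod, hcard]; exact Nat.mul_le_mul_right _ hMle)
  have hbij : Function.Bijective e₀ := (Nat.bijective_iff_surjective_and_card _).mpr ⟨hsurj, hprod.symm⟩
  have hMcard : Nat.card M = 8 * n := by
    rw [Nat.card_prod, hcard] at hprod
    exact (Nat.eq_of_mul_eq_mul_right Nat.card_pos hprod).symm
  let e := MulEquiv.ofBijective e₀ hbij
  -- the odd part
  have hc3w : Commute (c ^ 3) w := by
    show c ^ 3 * w = w * c ^ 3
    rw [← mul_inv_eq_iff_eq_mul]
    calc c ^ 3 * w * (c ^ 3)⁻¹ = c * (c * (c * w * c⁻¹) * c⁻¹) * c⁻¹ := by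
          rw [pow_succ, pow_two]; group
      _ = w := by rw [cw, cu, cwu]
  have hc3u : Commute (c ^ 3) u := by
    rw [← cw]
    exact ((Commute.refl c).pow_left 3).mul_right hc3w |>.mul_right ((Commute.refl c).pow_left 3).inv_right
  have hc3R0 : ∀ z ∈ R0, Commute (c ^ 3) z := by
    intro z hz
    rcases mem0.mp hz with rfl | rfl | rfl | rfl
    exacts [Commute.one_right _, hc3w, hc3u, hc3w.mul_right hc3u]
  have hne3 : ∀ i : ℕ, Commute (c ^ i) w → 3 ∣ i := by
    intro i hi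
    have hmod : Commute (c ^ (i % 3)) w := by
      have h := ((hc3w.pow_left (i / 3)).inv_left).mul_left hi
      rw [← pow_mul] at h
      have e : (c ^ (3 * (i / 3)))⁻¹ * c ^ i = c ^ (i % 3) := by
        rw [inv_mul_eq_iff_eq_mul, ← pow_add, Nat.div_add_mod]
      rwa [e] at h
    rcases (show i % 3 = 0 ∨ i % 3 = 1 ∨ i % 3 = 2 by omega) with h | h | h
    · exact Nat.dvd_of_mod_eq_zero h
    · rw [h, pow_one] at hmod
      exact absurd (hfix w (mem0.mpr (Or.inr (Or.inl rfl))) (by rw [hmod.eq, mul_inv_cancel_right])) ne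
    · exfalso
      rw [h] at hmod
      have h2 : c * u * c⁻¹ = w := by
        rw [← cw]
        calc c * (c * w * c⁻¹) * c⁻¹ = c ^ 2 * w * (c ^ 2)⁻¹ := by rw [pow_two]; group
          _ = w := by rw [hmod.eq, mul_inv_cancel_right]
      rw [cu, mul_eq_left] at h2
      rw [h2, mul_inv_eq_one, mul_eq_left] at cw
      exact ne cw
  have h3n : 3 ∣ n := hne3 n (by rw [hcpow]; exact Commute.one_left _)
  set O := Subgroup.zpowers (c ^ 3) with hO
  have hOM : O ≤ M := Subgroup.zpowers_le.mpr (pow_mem hcM 3)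
  have hOn : O.Normal := by
    rw [← Subgroup.normalizer_eq_top_iff]
    have hmem : ∀ g, g * c ^ 3 * g⁻¹ ∈ O → g ∈ Subgroup.normalizer (O : Set A) := fun g hg => by
      refine Subgroup.mem_normalizer_iff_map_conj_eq.mpr (Subgroup.eq_of_le_of_card_ge ?_
        (Subgroup.card_map_of_injective (MulEquiv.injective _)).ge)
      rw [hO, MonoidHom.map_zpowers, Subgroup.zpowers_le]
      exact hg
    refine gen _ (fun r hr => hmem r ?_) (hmem x ?_) (hmem c ?_)
    · obtain ⟨a', ha', f', hf', rfl⟩ := hdec r hr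
      rw [((hc3R0 a' ha').mul_right (hFc f' hf' (c ^ 3)).symm).symm.eq, mul_inv_cancel_right]
      exact Subgroup.mem_zpowers _
    · have h : t * c ^ 3 * t⁻¹ = (c ^ 3)⁻¹ := by rw [← conj_pow, htc, inv_pow]
      rw [show x = r'⁻¹ * t by rw [ht, inv_mul_cancel_left],
        show r'⁻¹ * t * c ^ 3 * (r'⁻¹ * t)⁻¹ = r'⁻¹ * (t * c ^ 3 * t⁻¹) * r' by group, h,
        mul_assoc, (hc3R0 r' hr').inv_left.eq, inv_mul_cancel_left]
      exact inv_mem (Subgroup.mem_zpowers _)
    · rw [((Commute.refl c).pow_right 3).eq, mul_inv_cancel_right]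
      exact Subgroup.mem_zpowers _
  haveI := hOn
  have hOcard : Nat.card O = n / 3 := by
    rw [hO, Nat.card_zpowers, orderOf_pow' _ (by norm_num), hn, Nat.gcd_eq_right h3n]
  have hn3 : 0 < n / 3 := Nat.div_pos (Nat.le_of_dvd hodd.pos h3n) (by norm_num)
  have hOodd : Odd (Nat.card O) := by
    rw [hOcard]
    exact Nat.Odd.of_mul_left (n := 3) (by rw [Nat.div_mul_cancel h3n]; exact hodd)
  have hcore : Cfsg.oddCore A = O := by
    refine le_antisymm (fun g hg => ?_) (Cores.le_oddCore hOodd)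
    have hgodd : Odd (orderOf g) := by
      refine (Cores.oddCore_odd (G := A)).of_dvd_nat ?_
      rw [← Subgroup.orderOf_mk (H := Cfsg.oddCore A) g hg]
      exact orderOf_dvd_natCard _
    have hgw : g * w * g⁻¹ * w⁻¹ = 1 := by
      have h1 : g * w * g⁻¹ * w⁻¹ ∈ R :=
        mul_mem ((inferInstance : R.Normal).conj_mem w hw g) (inv_mem hw)
      have h2 : g * w * g⁻¹ * w⁻¹ ∈ Cfsg.oddCore A := by
        rw [mul_assoc, mul_assoc, ← mul_assoc w]
        exact mul_mem hg ((Cores.pPrimeCore_normal 2).conj_mem _ (inv_mem hg) w)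
      refine eq_one_of_sq_of_odd (hRsq _ h1) (k := Nat.card (Cfsg.oddCore A)) ?_ Cores.oddCore_odd
      exact congrArg Subtype.val (pow_card_eq_one' (x := (⟨_, h2⟩ : Cfsg.oddCore A)))
    obtain ⟨i, r, hr, rfl⟩ := rot g hgodd
    obtain ⟨a', ha', f', hf', rfl⟩ := hdec r hr
    have hrw : Commute (a' * f') w := (hR0c a' ha' w (mem0.mpr (Or.inr (Or.inl rfl)))).mul_left (hFc f' hf' w)
    have hiw : Commute (c ^ i) w := by
      have h := hrw.inv_left.mul_left (mul_inv_eq_iff_eq_mul.mp (mul_inv_eq_one.mp hgw) : Commute (a' * f' * c ^ i) w)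
      rwa [inv_mul_cancel_left] at h
    obtain ⟨j, rfl⟩ := hne3 i hiw
    have hcom : Commute (a' * f') (c ^ (3 * j)) := by
      rw [pow_mul]
      exact ((hc3R0 a' ha').mul_right (hFc f' hf' (c ^ 3)).symm).symm.pow_right j
    have h : (a' * f' * c ^ (3 * j)) ^ orderOf (a' * f' * c ^ (3 * j)) = 1 := pow_orderOf_eq_one _
    have hsq := hRsq _ hr
    have hz : a' * f' = 1 := by
      refine eq_one_of_sq_of_odd hsq (k := orderOf (a' * f' * c ^ (3 * j)) * n) ?_ (hgodd.mul hodd)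
      have h2 := congrArg (· ^ n) h
      simp only [one_pow] at h2
      rw [← pow_mul, hcom.mul_pow, ← pow_mul c, show 3 * j * (orderOf (a' * f' * c ^ (3 * j)) * n) =
        n * (3 * j * orderOf (a' * f' * c ^ (3 * j))) by ring, pow_mul c n, hcpow, one_pow, mul_one] at h2
      exact h2
    rw [hz, one_mul, pow_mul]
    exact pow_mem (Subgroup.mem_zpowers _) j
  -- `M / O`
  set O' := O.subgroupOf M with hO'
  let π := QuotientGroup.mk' O'
  have hOc' : Nat.card O' = n / 3 := by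
    rw [Nat.card_congr (Subgroup.subgroupOfEquivOfLe hOM).toEquiv, hOcard]
  have hM24 : Nat.card (M ⧸ O') = 24 := by
    have h := O'.card_mul_index
    rw [hOc', hMcard, Subgroup.index_eq_card] at h
    refine Nat.eq_of_mul_eq_mul_left hn3 (h.trans ?_)
    obtain ⟨l, rfl⟩ := h3n
    rw [Nat.mul_div_cancel_left _ (by norm_num)]; ring
  have hR0M : R0 ≤ M := le_sup_left
  haveI : (R0.subgroupOf M).Normal := (Subgroup.normal_subgroupOf_iff_le_normalizer hR0M).mpr
    (sup_le Subgroup.le_normalizer hDN)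
  haveI : ((R0.subgroupOf M).map π).Normal :=
    Subgroup.Normal.map inferInstance π (QuotientGroup.mk'_surjective O')
  have hπ1 : ∀ {m : M}, π m = 1 ↔ (m : A) ∈ O := fun {m} => QuotientGroup.eq_one_iff m
  have hc3 : π ⟨c, hcM⟩ ^ 3 = 1 := by
    rw [← map_pow, hπ1, SubmonoidClass.coe_pow]
    exact Subgroup.mem_zpowers _
  obtain ⟨φ3, h3r, h3s⟩ := Cfsg.Agent.S3684.exists_lift 3 (π ⟨t, htM⟩) (π ⟨c, hcM⟩)
    (by rw [← map_mul]; exact (congrArg π (Subtype.ext htt : (⟨t, htM⟩ : M) * ⟨t, htM⟩ = 1)).trans (map_one π))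
    hc3 (by
      rw [← map_mul, ← map_mul, ← map_inv]
      refine congrArg π (Subtype.ext ?_)
      show t * c * t = c⁻¹
      conv_lhs => arg 2; rw [← hti]
      exact htc)
  have hKle : ∀ i : ℕ, ∀ a' ∈ R0, ∀ o ∈ O, t * c ^ i ≠ a' * o := by
    intro i a' ha' o ho h
    set K := R0 ⊔ Subgroup.zpowers c with hK
    have hcK : c ∈ K := Subgroup.mem_sup_right (Subgroup.mem_zpowers c)
    have htK : t ∈ K := by
      rw [show t = a' * o * (c ^ i)⁻¹ by rw [← h, mul_inv_cancel_right]]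
      exact mul_mem (mul_mem (Subgroup.mem_sup_left ha')
        ((Subgroup.zpowers_le.mpr (pow_mem hcK 3) : O ≤ K) ho)) (inv_mem (pow_mem hcK i))
    have hMK : M ≤ K := sup_le le_sup_left (by
      rintro _ ⟨(k | k), rfl⟩
      · rw [hφr]; exact pow_mem hcK _
      · rw [hφs]; exact mul_mem htK (pow_mem hcK _))
    have hs : Function.Surjective (fun z : R0 × Subgroup.zpowers c =>
        (⟨(z.1 : A) * z.2, mul_mem (Subgroup.mem_sup_left z.1.2) (Subgroup.mem_sup_right z.2.2)⟩ : K)) := by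
      rintro ⟨m, hm⟩
      obtain ⟨z, hz, q, hq, e⟩ :=
        (Coprime.mem_sup_of_le_normalizer (Subgroup.zpowers_le.mpr hcN)).mp hm
      exact ⟨(⟨z, hz⟩, ⟨q, hq⟩), Subtype.ext e⟩
    have h1 := (Subgroup.card_le_of_le hMK).trans (Nat.card_le_card_of_surjective _ hs)
    rw [hMcard, Nat.card_prod, Nat.card_zpowers, hn] at h1
    have := Nat.mul_le_mul_right n hcard0
    have := hodd.pos
    omega
  have hinj : ∀ d, φ3 d ∈ (R0.subgroupOf M).map π → d = 1 := by
    rintro (i | i) ⟨m, hm, e'⟩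
    · rw [h3r, ← map_pow, ← mul_inv_eq_one, ← map_inv, ← map_mul, hπ1, Subgroup.coe_mul,
        Subgroup.coe_inv, SubmonoidClass.coe_pow] at e'
      obtain ⟨l, hl⟩ := Subgroup.mem_zpowers_iff.mp e'
      have hm' : (m : A) = 1 := by
        refine eq_one_of_sq_of_odd (hR0sq _ hm) (k := n) ?_ hodd
        have : (m : A) = c ^ ((3 : ℤ) * l + (i.val : ℕ)) := by
          rw [zpow_add, zpow_mul, zpow_natCast, show (c ^ (3 : ℤ)) = c ^ 3 from zpow_natCast c 3, hl,
            inv_mul_cancel_right]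
        rw [this, ← zpow_natCast, ← zpow_mul, mul_comm, zpow_mul, zpow_natCast, hcpow, one_zpow]
      rw [hm', one_mul] at hl
      have h3i : 3 ∣ i.val := hne3 _ (by
        have hh : Commute ((c ^ i.val)⁻¹) w := hl ▸ hc3w.zpow_left l
        simpa using hh.inv_left)
      have hlt := ZMod.val_lt i
      have hi : i = 0 := (ZMod.val_eq_zero i).mp (by omega)
      rw [hi]; rfl
    · exfalso
      rw [h3s, ← map_pow, ← map_mul, ← mul_inv_eq_one, ← map_inv, ← map_mul, hπ1, Subgroup.coe_mul,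
        Subgroup.coe_inv, Subgroup.coe_mul, SubmonoidClass.coe_pow] at e'
      refine hKle i.val m hm _ (hOn.conj_mem _ (inv_mem e') (m : A)⁻¹) ?_
      change _ = (m : A) * ((m : A)⁻¹ * ((m : A) * (t * c ^ i.val)⁻¹)⁻¹ * (m : A)⁻¹⁻¹)
      group
  have hcent : ∃ v ∈ (R0.subgroupOf M).map π, ¬ Commute (φ3 (.r 1)) v := by
    refine ⟨π ⟨w, hR0M (mem0.mpr (Or.inr (Or.inl rfl)))⟩, ⟨_, mem0.mpr (Or.inr (Or.inl rfl)), rfl⟩, fun h => ?_⟩
    rw [h3r, show (1 : ZMod 3).val = 1 from rfl, pow_one] at h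
    have h' := h.eq
    rw [← map_mul, ← map_mul, ← mul_inv_eq_one, ← map_inv, ← map_mul, hπ1] at h'
    have h'' : c * w * (w * c)⁻¹ ∈ O := h'
    rw [mul_inv_rev, ← mul_assoc, cw] at h''
    have h1 : u * w⁻¹ = 1 := by
      refine eq_one_of_sq_of_odd (hRsq _ (mul_mem hu (inv_mem hw))) (k := Nat.card O) ?_ hOodd
      exact congrArg Subtype.val (pow_card_eq_one' (x := (⟨_, h''⟩ : O)))
    rw [mul_inv_eq_one] at h1
    exact ne (hfix w (mem0.mpr (Or.inr (Or.inl rfl))) (cw.trans h1))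
  obtain ⟨e4⟩ := equiv_s4 hM24 _ φ3 hinj hcent
  let Ψ : A →* Equiv.Perm (Fin 4) × F :=
    ((e4.toMonoidHom.comp π).prodMap (MonoidHom.id F)).comp e.symm.toMonoidHom
  have hΨs : Function.Surjective Ψ :=
    (Function.Surjective.prodMap (e4.surjective.comp (QuotientGroup.mk'_surjective O'))
      Function.surjective_id).comp e.symm.surjective
  have hker : Ψ.ker = O := by
    ext g
    obtain ⟨⟨m, f⟩, rfl⟩ := e.surjective g
    have hΨ : Ψ (e (m, f)) = (e4 (π m), f) := by simp [Ψ]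
    rw [MonoidHom.mem_ker, hΨ, Prod.mk_eq_one, EmbeddingLike.map_eq_one_iff, hπ1]
    show _ ↔ (m : A) * (f : A) ∈ O
    constructor
    · rintro ⟨h, rfl⟩
      rw [OneMemClass.coe_one, mul_one]
      exact h
    · intro h
      have hfM : (f : A) ∈ M := (M.mul_mem_cancel_left m.2).mp (hOM h)
      have hf1 : f = 1 := by
        have hh : e₀ (⟨f, hfM⟩, 1) = e₀ (1, f) := by simp [e₀, MonoidHom.noncommCoprod]
        exact (Prod.ext_iff.mp (hbij.1 hh)).2.symm
      subst hf1
      rw [OneMemClass.coe_one, mul_one] at h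
      exact ⟨h, rfl⟩
  exact ⟨(QuotientGroup.quotientMulEquivOfEq (hcore.trans hker.symm)).trans
    (QuotientGroup.quotientKerEquivOfSurjective Ψ hΨs)⟩

theorem recognise_klein {R : Subgroup A} [R.Normal] {c x : A} {n : ℕ} (hn : orderOf c = n) (hodd : Odd n)
    (hcard : Nat.card A = 4 * n) (hR : Nat.card R = 2) (hxR : x ∉ R) (hxsq : x * x = 1)
    (hc : ∀ r ∈ R, ∀ g : A, Commute r g) (hcx : c * (x * c * x⁻¹) ∈ R)
    (gen : ∀ K : Subgroup A, R ≤ K → x ∈ K → c ∈ K → K = ⊤)
    (rot : ∀ g : A, Odd (orderOf g) → ∃ i : ℕ, ∃ r ∈ R, g = r * c ^ i) :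
    Nonempty (A ⧸ Cfsg.oddCore A ≃* Multiplicative (ZMod 2) × Multiplicative (ZMod 2)) := by
  classical
  have hRsq : ∀ r ∈ R, r * r = 1 := fun r hr => by
    have h := congrArg Subtype.val (pow_card_eq_one' (x := (⟨r, hr⟩ : R)))
    rw [hR, SubmonoidClass.coe_pow, pow_two] at h
    exact h
  have hcpow : c ^ n = 1 := hn ▸ pow_orderOf_eq_one c
  have hxc : x * c * x⁻¹ = c⁻¹ := by
    set r := c * (x * c * x⁻¹) with hr
    have h1 : x * c * x⁻¹ = c⁻¹ * r := by rw [hr, inv_mul_cancel_left]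
    have h3 : (c⁻¹ * r) ^ n = 1 := by rw [← h1, conj_pow, hcpow, mul_one, mul_inv_cancel]
    rw [(hc r hcx c⁻¹).symm.mul_pow, inv_pow, hcpow, inv_one, one_mul] at h3
    rw [h1, eq_one_of_sq_of_odd (hRsq r hcx) h3 hodd, mul_one]
  set O := Subgroup.zpowers c with hO
  have hOn : O.Normal := by
    rw [← Subgroup.normalizer_eq_top_iff]
    refine gen _ (fun r hr => ?_) ?_ (Subgroup.le_normalizer (Subgroup.mem_zpowers c))
    · refine Subgroup.mem_normalizer_iff_map_conj_eq.mpr ?_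
      rw [hO, MonoidHom.map_zpowers]
      show Subgroup.zpowers (r * c * r⁻¹) = _
      rw [(hc r hr c).eq, mul_inv_cancel_right]
    · refine Subgroup.mem_normalizer_iff_map_conj_eq.mpr ?_
      rw [hO, MonoidHom.map_zpowers]
      show Subgroup.zpowers (x * c * x⁻¹) = _
      rw [hxc, Subgroup.zpowers_inv]
  haveI := hOn
  have hOcard : Nat.card O = n := by rw [hO, Nat.card_zpowers, hn]
  have hcore : Cfsg.oddCore A = O := by
    refine le_antisymm (fun g hg => ?_) (Cores.le_oddCore (hOcard ▸ hodd))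
    have hgodd : Odd (orderOf g) := by
      refine (Cores.oddCore_odd (G := A)).of_dvd_nat ?_
      rw [← Subgroup.orderOf_mk (H := Cfsg.oddCore A) g hg]
      exact orderOf_dvd_natCard _
    obtain ⟨i, r, hr, rfl⟩ := rot g hgodd
    have h2 := congrArg (· ^ n) (pow_orderOf_eq_one (r * c ^ i))
    simp only [one_pow] at h2
    rw [← pow_mul, (hc r hr (c ^ i)).mul_pow, ← pow_mul c, show i * (orderOf (r * c ^ i) * n) =
      n * (i * orderOf (r * c ^ i)) by ring, pow_mul c n, hcpow, one_pow, mul_one] at h2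
    rw [eq_one_of_sq_of_odd (hRsq r hr) h2 (hgodd.mul hodd), one_mul]
    exact pow_mem (Subgroup.mem_zpowers c) i
  have hq4 : Nat.card (A ⧸ O) = 4 := by
    have h := O.card_mul_index
    rw [hOcard, hcard, Subgroup.index_eq_card, mul_comm 4] at h
    exact Nat.eq_of_mul_eq_mul_left hodd.pos h
  have hsq : ∀ q : A ⧸ O, q * q = 1 := by
    let π := QuotientGroup.mk' O
    have hπc : π c = 1 := (QuotientGroup.eq_one_iff c).mpr (Subgroup.mem_zpowers c)
    have hxall : ∀ g, Commute (π g) (π x) := fun g => by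
      have h := gen ((Subgroup.centralizer {π x}).comap π)
        (fun r hr => Subgroup.mem_centralizer_singleton_iff.mpr ((hc r hr x).map π).eq)
        (Subgroup.mem_centralizer_singleton_iff.mpr rfl)
        (Subgroup.mem_centralizer_singleton_iff.mpr (by rw [hπc, one_mul, mul_one]))
      exact Subgroup.mem_centralizer_singleton_iff.mp (h.ge (Subgroup.mem_top g))
    have hcomm : ∀ g g', Commute (π g) (π g') := fun g => by
      have h := gen ((Subgroup.center (A ⧸ O)).comap π)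
        (fun r hr => Subgroup.mem_center_iff.mpr fun q => QuotientGroup.induction_on q fun g' =>
          ((hc r hr g').map π).eq.symm)
        (Subgroup.mem_center_iff.mpr fun q => QuotientGroup.induction_on q fun g' => (hxall g').eq)
        (Subgroup.mem_comap.mpr (hπc ▸ one_mem _))
      exact fun g' => (Subgroup.mem_center_iff.mp (h.ge (Subgroup.mem_top g)) (π g')).symm
    let K : Subgroup A :=
      { carrier := {g | π g * π g = 1}
        one_mem' := by simp
        mul_mem' := fun {a b} ha hb => by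
          show π (a * b) * π (a * b) = 1
          rw [map_mul, (hcomm b a).mul_mul_mul_comm, ha, hb, one_mul]
        inv_mem' := fun {a} ha => by
          show π a⁻¹ * π a⁻¹ = 1
          rw [map_inv, ← mul_inv_rev, ha, inv_one] }
    have hK := gen K (fun r hr => by show π r * π r = 1; rw [← map_mul, hRsq r hr, map_one])
      (by show π x * π x = 1; rw [← map_mul, hxsq, map_one]) (by show π c * π c = 1; rw [hπc, one_mul])
    exact fun q => QuotientGroup.induction_on q fun g => hK.ge (Subgroup.mem_top g)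
  haveI : IsKleinFour (A ⧸ O) := ⟨hq4, by
    haveI : Nontrivial (A ⧸ O) := Finite.one_lt_card_iff_nontrivial.mp (by omega)
    exact (Monoid.exponent_eq_prime_iff Nat.prime_two).mpr fun g hg =>
      orderOf_eq_prime (by rw [pow_two]; exact hsq g) hg⟩
  haveI : IsKleinFour (Multiplicative (ZMod 2) × Multiplicative (ZMod 2)) := ⟨by simp, by
    refine (Monoid.exponent_eq_prime_iff Nat.prime_two).mpr fun g hg => orderOf_eq_prime ?_ hg
    revert g; decide⟩
  obtain ⟨e⟩ := IsKleinFour.nonempty_mulEquiv (G₁ := A ⧸ O)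
    (G₂ := Multiplicative (ZMod 2) × Multiplicative (ZMod 2))
  exact ⟨(QuotientGroup.quotientMulEquivOfEq hcore).trans e⟩

end Cfsg.Agent.LocalFlavell.DihedralChain
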